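import Groth.Agent.L21.AffCd.Completion

/-!
# Smooth proper completions of normal curves
-/

set_option autoImplicit false
set_option linter.style.haveILetI false
set_option linter.unusedSectionVars false
set_option backward.isDefEq.respectTransparency false

universe u

open CategoryTheory CategoryTheory.Limits AlgebraicGeometry TopologicalSpace

namespace Groth.L21.CurveExt

open Groth.L21.AffCd (smooth_of_normal)

variable {k : Type u} [Field k] [IsAlgClosed k]

/-- A normal separated curve is open in a smooth proper curve. -/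
theorem exists_smooth_completion {U : Scheme.{u}} [IsIntegral U] (f : U ⟶ Spec (CommRingCat.of k))
    [LocallyOfFiniteType f] [IsSeparated f] [QuasiCompact f] (hdim : topologicalKrullDim U = 1) (hN : Pi1.IsNormalScheme U) :
    ∃ (Xb : Scheme.{u}) (p : Xb ⟶ Spec (CommRingCat.of k)) (j : U ⟶ Xb) (_ : IsOpenImmersion j),
      Curve.IsSmoothProperCurve k Xb p ∧ j ≫ p = f := by
  haveI : CompactSpace U := QuasiCompact.compactSpace_of_compactSpace f
  obtain ⟨Y, j₀, p₀, hj₀, hp₀, hjp, hY⟩ := Groth.L21.TopDeg.exists_model k f 1 hdim.le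
  haveI := hj₀; haveI := hp₀
  haveI : IsLocallyNoetherian U := LocallyOfFiniteType.isLocallyNoetherian f
  haveI : AlgebraicGeometry.IsNoetherian U := {}
  haveI : QuasiCompact j₀ := inferInstance
  let Z := j₀.image
  let jZ : U ⟶ Z := j₀.toImage
  haveI : IsOpenImmersion jZ := inferInstanceAs (IsOpenImmersion j₀.toImage)
  let pZ : Z ⟶ Spec (CommRingCat.of k) := j₀.imageι ≫ p₀
  haveI : IsProper pZ := inferInstanceAs (IsProper (j₀.imageι ≫ p₀))
  have hjZ : jZ ≫ pZ = f := by
    rw [← hjp]
    exact Scheme.Hom.toImage_imageι_assoc _ _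
  haveI : IsIntegral Z := by
    haveI : IsReduced j₀.image := Groth.L20.Chevalley.isReduced_image j₀
    haveI : Nonempty ↥j₀.image := ⟨j₀.toImage (Classical.arbitrary U)⟩
    haveI : IrreducibleSpace ↥j₀.image := by
      have hd : DenseRange j₀.toImage.base := Scheme.Hom.denseRange j₀.toImage
      exact irreducibleSpace_def _ |>.2 (by
        have h1 := ((IrreducibleSpace.isIrreducible_univ U).image j₀.toImage j₀.toImage.continuous.continuousOn).closure
        rwa [Set.image_univ, hd.closure_range] at h1)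
    exact isIntegral_of_irreducibleSpace_of_isReduced _
  have hZ : topologicalKrullDim Z ≤ 1 := (Groth.L19.topologicalKrullDim_le_of_isIntegralHom j₀.imageι).trans hY
  letI : Z.Over (Spec (CommRingCat.of k)) := ⟨pZ⟩
  haveI : LocallyOfFiniteType (Z ↘ Spec (CommRingCat.of k)) := inferInstanceAs (LocallyOfFiniteType pZ)
  haveI : QuasiCompact (Z.fromSpecStalk (genericPoint Z)) := Groth.L20.GenExt.quasiCompact_generic Z
  haveI : QuasiSeparated (Z.fromSpecStalk (genericPoint Z)) := inferInstance
  obtain ⟨hfin, -, ⟨V, hV, hVi⟩, hint, hNN⟩ := Groth.Agent.S1585.result k Z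
  haveI := hfin; haveI := hVi; haveI := hint
  let N := Curv2.normalization Z
  let ν : N ⟶ Z := Curv2.normalizationι Z
  obtain ⟨hνgen, -⟩ := Groth.L05.PtSeq.ffMap_bijective ν V hV
  -- the part over the curve
  let O : Z.Opens := jZ.opensRange
  have hOg : genericPoint Z ∈ O := ((genericPoint_spec Z).mem_open_set_iff O.isOpen).2
    ⟨jZ (Classical.arbitrary U), trivial, ⟨_, rfl⟩⟩
  let W : N.Opens := ν ⁻¹ᵁ O
  haveI : Nonempty (W : Scheme.{u}) := ⟨⟨genericPoint N, show ν (genericPoint N) ∈ O by rw [hνgen]; exact hOg⟩⟩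
  haveI : IsIntegral (W : Scheme.{u}) := isIntegral_of_isOpenImmersion W.ι
  let r : (W : Scheme.{u}) ⟶ U := (ν ∣_ O) ≫ jZ.isoOpensRange.inv
  have hr : r ≫ jZ = W.ι ≫ ν := by
    simp only [r, Category.assoc, Scheme.Hom.isoOpensRange_inv_comp]
    exact morphismRestrict_ι _ _
  haveI : IsFinite ν := hfin
  haveI : IsFinite r := inferInstance
  have hgW : W.ι (genericPoint (W : Scheme.{u})) = genericPoint N := genericPoint_eq_of_isOpenImmersion W.ι
  have hrg : r (genericPoint (W : Scheme.{u})) = genericPoint U := jZ.isOpenEmbedding.injective (by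
    rw [← Scheme.Hom.comp_apply, hr, Scheme.Hom.comp_apply, hgW, hνgen, genericPoint_eq_of_isOpenImmersion jZ])
  have hbir : Function.Bijective (Groth.L21.Curve.ffMap r hrg) := by
    haveI : IsIso (ν.stalkMap (W.ι (genericPoint (W : Scheme.{u})))) :=
      Groth.L05.PtSeq.isIso_stalkMap_of_restrict ν V (by
        rw [hgW, hνgen]; exact ((genericPoint_spec Z).mem_open_set_iff V.isOpen).2 (by simpa using hV))
    haveI : IsIso (r.stalkMap (genericPoint (W : Scheme.{u}))) := by
      have h := Scheme.Hom.stalkMap_comp r jZ (genericPoint (W : Scheme.{u}))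
      have h' : IsIso ((r ≫ jZ).stalkMap (genericPoint (W : Scheme.{u}))) := by
        rw [Scheme.Hom.stalkMap_congr_hom _ _ hr, Scheme.Hom.stalkMap_comp]
        infer_instance
      rw [h] at h'
      exact @IsIso.of_isIso_comp_left _ _ _ _ _ _ _ _ h'
    haveI : IsIso (U.presheaf.stalkSpecializes (specializes_of_eq hrg)) :=
      (U.presheaf.stalkCongr (.of_eq hrg)).symm.isIso_hom
    exact ConcreteCategory.bijective_of_isIso
      (U.presheaf.stalkSpecializes (specializes_of_eq hrg) ≫ r.stalkMap (genericPoint (W : Scheme.{u})))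
  haveI : IsLocallyNoetherian (W : Scheme.{u}) := LocallyOfFiniteType.isLocallyNoetherian r
  haveI : CompactSpace (W : Scheme.{u}) := QuasiCompact.compactSpace_of_compactSpace r
  haveI : AlgebraicGeometry.IsNoetherian (W : Scheme.{u}) := {}
  haveI : (W : Scheme.{u}).IsSeparated := ⟨by
    rw [← terminal.comp_from (r ≫ f)]; infer_instance⟩
  haveI : IsOpenImmersion r := Groth.L21.Curve.isOpenImmersion_of_birational r hrg hbir hdim hN
  haveI : Surjective r := ⟨fun x => (genericPoint_specializes x).mem_closed r.isClosedMap.isClosed_range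
    ⟨genericPoint (W : Scheme.{u}), hrg⟩⟩
  haveI : IsIso r := (isIso_iff_isOpenImmersion_and_surjective r).2 ⟨inferInstance, inferInstance⟩
  let j : U ⟶ N := inv r ≫ W.ι
  have hj : j ≫ ν = jZ := by
    rw [Category.assoc, ← hr, IsIso.inv_hom_id_assoc]
  let p : N ⟶ Spec (CommRingCat.of k) := ν ≫ pZ
  haveI : IsProper p := inferInstanceAs (IsProper (ν ≫ pZ))
  have hNd : topologicalKrullDim N ≤ 1 := (Groth.L19.topologicalKrullDim_le_of_isIntegralHom ν).trans hZ
  haveI : Smooth p := smooth_of_normal p hNd hNN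
  have hjp : j ≫ p = f := by rw [← Category.assoc, hj, hjZ]
  have hd1 : topologicalKrullDim N = 1 :=
    le_antisymm hNd (hdim.symm.le.trans j.isOpenEmbedding.isEmbedding.isInducing.topologicalKrullDim_le)
  exact ⟨N, p, j, inferInstance, ⟨inferInstance, inferInstance, inferInstance, hd1⟩, hjp⟩

end Groth.L21.CurveExt
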