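import Groth.Agent.L21.CurveExt.Normal
import Groth.Agent.L27.PBC.CurveComp

/-!
# Base change of constants on curves
-/

set_option autoImplicit false
set_option linter.style.haveILetI false
set_option maxHeartbeats 1000000
set_option linter.unusedSectionVars false
set_option backward.isDefEq.respectTransparency false
set_option backward.isDefEq.respectTransparency.types false

universe u

open CategoryTheory CategoryTheory.Limits AlgebraicGeometry Opposite TopologicalSpace

noncomputable section

namespace Groth.L21.CurveExt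

variable {k : Type u} [Field k] [IsAlgClosed k] {K : Type u} [Field K] [IsAlgClosed K] [Algebra k K]
  {X : Scheme.{u}} (f : X ⟶ Spec (CommRingCat.of k)) [LocallyOfFiniteType f]

include f in
/-- A finite birational map from a normal integral scheme onto the closure of a point. -/
theorem exists_normal_over_point (x : X) :
    ∃ (N : Scheme.{u}) (μ : N ⟶ X) (_ : IsFinite μ) (_ : IsIntegral N), Pi1.IsNormalScheme N ∧
      Set.range μ.base ⊆ closure ({x} : Set X) ∧
      ∀ (Ω : Type u) [Field Ω] (ξ : Spec (CommRingCat.of Ω) ⟶ X), ξ.base default = x → ∃! v, v ≫ μ = ξ := by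
  let C : Closeds X := ⟨closure {x}, isClosed_closure⟩
  let I := Scheme.IdealSheafData.vanishingIdeal C
  let E := I.subscheme
  let ι : E ⟶ X := I.subschemeι
  have hr : Set.range ι.base = (C : Set X) := by
    rw [Scheme.IdealSheafData.range_subschemeι, Scheme.IdealSheafData.coe_support_vanishingIdeal]
  haveI : AlgebraicGeometry.IsReduced E := Groth.L18.isReduced_vanishingIdeal_subscheme C
  let e := ι.isEmbedding.toHomeomorph
  have hir : IsIrreducible (Set.range ι.base) := hr ▸ isIrreducible_singleton.closure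
  haveI : IrreducibleSpace (Set.range ι.base) := Subtype.irreducibleSpace hir
  haveI : IrreducibleSpace E := by
    rw [irreducibleSpace_def, Set.top_eq_univ, ← Set.image_univ_of_surjective e.symm.surjective]
    exact ((irreducibleSpace_def _).mp inferInstance).image e.symm e.symm.continuous.continuousOn
  haveI : IsIntegral E := isIntegral_of_irreducibleSpace_of_isReduced _
  letI : E.Over (Spec (CommRingCat.of k)) := ⟨ι ≫ f⟩
  haveI : LocallyOfFiniteType (E ↘ Spec (CommRingCat.of k)) := inferInstanceAs (LocallyOfFiniteType (ι ≫ f))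
  haveI : QuasiCompact (E.fromSpecStalk (genericPoint E)) := Groth.L20.GenExt.quasiCompact_generic E
  haveI : QuasiSeparated (E.fromSpecStalk (genericPoint E)) := inferInstance
  obtain ⟨hfin, -, ⟨V, hV, hVi⟩, hint, hN⟩ := Groth.Agent.S1585.result k E
  let ν := Curv2.normalizationι E
  haveI := hfin; haveI := hVi
  have hgen : genericPoint E ∈ V := ((genericPoint_spec E).mem_open_set_iff V.isOpen).2 (by simpa using hV)
  have hx : ι.base (genericPoint E) = x := by
    obtain ⟨a, ha⟩ : x ∈ Set.range ι.base := hr ▸ subset_closure (Set.mem_singleton x)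
    have h1 : ι.base (genericPoint E) ⤳ x := ha ▸ (genericPoint_specializes a).map ι.continuous
    have h2 : x ⤳ ι.base (genericPoint E) := specializes_iff_mem_closure.2 (hr ▸ ⟨_, rfl⟩ : ι.base (genericPoint E) ∈ (C : Set X))
    exact (h1.antisymm h2).eq
  refine ⟨Curv2.normalization E, ν ≫ ι, inferInstance, hint, hN, ?_, fun Ω _ ξ hξ => ?_⟩
  · rintro _ ⟨a, rfl⟩
    exact hr.le ⟨ν.base a, rfl⟩
  have hrξ : Set.range ξ ⊆ (C : Set X) := by
    rintro _ ⟨t, rfl⟩
    exact (congrArg ξ.base (Subsingleton.elim t default)).trans hξ ▸ subset_closure (Set.mem_singleton x)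
  have hker : ι.ker ≤ ξ.ker := by
    rw [Scheme.IdealSheafData.ker_subschemeι]
    exact Groth.L18.vanishingIdeal_le_ker ξ C hrξ
  let v₁ : Spec (CommRingCat.of Ω) ⟶ E := IsClosedImmersion.lift ι ξ hker
  have hv₁ : v₁ ≫ ι = ξ := IsClosedImmersion.lift_fac _ _ _
  have hv₁V : Set.range v₁ ⊆ Set.range V.ι := by
    rintro _ ⟨t, rfl⟩
    rw [Scheme.Opens.range_ι]
    have h0 : v₁ t = genericPoint E := ι.isEmbedding.injective (by
      rw [← Scheme.Hom.comp_apply, hv₁, hx, Subsingleton.elim t default, hξ])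
    rw [h0]
    exact hgen
  let v₂ := IsOpenImmersion.lift V.ι v₁ hv₁V
  have hv₂ : v₂ ≫ V.ι = v₁ := IsOpenImmersion.lift_fac _ _ _
  refine ⟨v₂ ≫ inv (ν ∣_ V) ≫ (ν ⁻¹ᵁ V).ι, ?_, fun w hw => ?_⟩
  · simp only [Category.assoc]
    rw [← morphismRestrict_ι_assoc, IsIso.inv_hom_id_assoc, ← Category.assoc, hv₂, hv₁]
  · have hw' : w ≫ ν = v₁ := (cancel_mono ι).1 (by rw [Category.assoc, hw, hv₁])
    have hwr : Set.range w ⊆ Set.range (ν ⁻¹ᵁ V).ι := by
      rintro _ ⟨t, rfl⟩
      rw [Scheme.Opens.range_ι]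
      show ν (w t) ∈ V
      rw [← Scheme.Hom.comp_apply, hw']
      obtain ⟨s, hs⟩ := hv₁V ⟨t, rfl⟩
      exact hs ▸ s.2
    let w' := IsOpenImmersion.lift (ν ⁻¹ᵁ V).ι w hwr
    have hww : w' ≫ (ν ⁻¹ᵁ V).ι = w := IsOpenImmersion.lift_fac _ _ _
    have h2 : w' ≫ (ν ∣_ V) = v₂ := (cancel_mono V.ι).1 (by
      rw [Category.assoc, morphismRestrict_ι, ← Category.assoc, hww, hw', hv₂])
    rw [← h2, Category.assoc, IsIso.hom_inv_id_assoc, hww]

/-- Constants of cyclic groups of invertible order on curves. -/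
theorem bij_const [IsSeparated f] [QuasiCompact f] [PreservesFiniteLimits (EtCoh.pull (bcPr f (K := K)))]
    (hdim : topologicalKrullDim X ≤ 1) (n : ℕ) [NeZero n] (hn : (n : k) ≠ 0) :
    Bij (bcPr f (K := K)) (EtCoh.const X (ZMod n)) := by
  haveI : IsLocallyNoetherian X := LocallyOfFiniteType.isLocallyNoetherian f
  haveI : CompactSpace X := QuasiCompact.compactSpace_of_compactSpace f
  haveI := Groth.L28.CurveCd.finite_not_closed (X := X) hdim
  haveI := Fintype.ofFinite {x : X // ¬ IsClosed ({x} : Set X)}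
  classical
  choose N μ hfin hint hN hrange hlift using fun x : X => exists_normal_over_point f x
  haveI := hfin; haveI := hint
  let eI := (Fintype.equivFin {x : X // ¬ IsClosed ({x} : Set X)}).symm
  let G := fun x : {x : X // ¬ IsClosed ({x} : Set X)} => (EtCoh.push (μ x.1)).obj (EtCoh.const (N x.1) (ZMod n))
  haveI : HasBiproduct G := HasBiproductsOfShape.has_biproduct _
  haveI : HasBiproduct (G ∘ eI) := HasBiproductsOfShape.has_biproduct _
  let eG : ⨁ (G ∘ eI) ≅ ⨁ G :=
    (biproduct.uniqueUpToIso (G ∘ eI) ((Bicone.whiskerIsBilimitIff _ eI).2 (biproduct.isBilimit G))).symm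
  let φ : EtCoh.const X (ZMod n) ⟶ ⨁ G := biproduct.lift fun x => Groth.L21.AffCd.constRes (μ x.1) (ZMod n)
  refine bij_of_generic f φ (fun Ω _ _ ξ hc => ?_) (bij_of_iso eG (bij_biproduct (G ∘ eI) fun l => ?_))
  · let x₀ : {x : X // ¬ IsClosed ({x} : Set X)} := ⟨_, hc⟩
    refine Groth.L28.CurveCd.bijective_stalk_lift G _ ξ x₀ (fun l hne => ?_) ?_
    · refine Groth.L28.CurveCd.isZero_stalk_push_closure _ _ ξ fun hm => ?_
      refine Groth.L28.CurveCd.not_specializes hdim hc (fun e => hne ?_)
        (closure_minimal (hrange _) isClosed_closure hm)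
      exact Subtype.ext e.symm
    · let ξ' : Spec (CommRingCat.of (AlgebraicClosure Ω)) ⟶ X :=
        Spec.map (CommRingCat.ofHom (algebraMap Ω (AlgebraicClosure Ω))) ≫ ξ
      have hp : ξ'.base default = ξ.base default :=
        (Scheme.Hom.comp_apply _ _ _).trans (congrArg ξ.base (Subsingleton.elim _ _))
      exact Groth.L21.AffCd.bijective_stalk_of_point _ ξ ξ' hp
        (Groth.L21.AffCd.bijective_stalk_constRes (μ x₀.1) (ZMod n) ξ'
          (hlift _ _ ξ' hp))
  · haveI := Groth.L27.EtSite.preservesFiniteLimits_pull (pullback.fst (μ (eI l).1) (bcPr f (K := K)))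
    refine bij_push (μ (eI l).1) _ fun q => ?_
    let g := μ (eI l).1 ≫ f
    haveI := Groth.L27.EtSite.preservesFiniteLimits_pull (bcPr g (K := K))
    haveI : IsLocallyNoetherian (N (eI l).1) := LocallyOfFiniteType.isLocallyNoetherian g
    have h := bij_const_normal (K := K) g (hN _)
      ((Groth.L19.topologicalKrullDim_le_of_isIntegralHom (μ (eI l).1)).trans hdim) n hn q
    let θ := pullbackRightPullbackFstIso f (Spec.map (CommRingCat.ofHom (algebraMap k K))) (μ (eI l).1)
    exact bijective_of_iso θ _ _ (pullbackRightPullbackFstIso_hom_fst _ _ _) _ q h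
where
  bijective_of_iso {A Z Z' : Scheme.{u}} (θ : Z' ≅ Z) (c : Z ⟶ A) (c' : Z' ⟶ A) (w : θ.hom ≫ c = c')
      [PreservesFiniteLimits (EtCoh.pull c)] [PreservesFiniteLimits (EtCoh.pull c')] (F : EtCoh.Ab A) (q : ℕ)
      (h : Function.Bijective (EtCore.Hpull c F q)) : Function.Bijective (EtCore.Hpull c' F q) := by
    refine ⟨fun a b e => ?_, Groth.L27.PBC.surjective_of_iso θ c c' w F q h.2⟩
    haveI := Groth.L27.EtSite.preservesFiniteLimits_pull θ.hom
    have hθ := Groth.Agent.S0642.result θ.hom ((EtCoh.pull c).obj F) q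
    refine h.1 (hθ.1 ?_)
    rw [Groth.L27.LimCoh.Hpull_comp θ.hom c w q F a, Groth.L27.LimCoh.Hpull_comp θ.hom c w q F b, e]

end Groth.L21.CurveExt
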