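import Groth.Agent.L27.PBC.Efface
import Groth.Agent.L21.CurveFin.Constr

/-!
# Comparison of cohomology of sheaves with torsion orders in a set of primes
-/

set_option autoImplicit false
set_option linter.style.haveILetI false
set_option linter.unusedVariables false
set_option linter.unusedSectionVars false
set_option backward.isDefEq.respectTransparency false
set_option backward.isDefEq.respectTransparency.types false

universe u

open CategoryTheory CategoryTheory.Limits AlgebraicGeometry Opposite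

noncomputable section

namespace Groth.L21.CurveExt

open Groth.L27.LimCoh
open Groth.L27.PBC (cMap)

variable {X Z : Scheme.{u}} (i : Z ⟶ X) [PreservesFiniteLimits (EtCoh.pull i)] (L : Set ℕ)

/-- A quotient of two `L`-torsion sheaves is `L`-torsion. -/
theorem isLTorsion_of_epi_desc {F G Q : EtCoh.Ab X} (a : F ⟶ Q) (b : G ⟶ Q) [Epi (biprod.desc a b)]
    (hF : EtAcyc.IsLTorsion L F) (hG : EtAcyc.IsLTorsion L G) : EtAcyc.IsLTorsion L Q := by
  refine L28.EtTor.isLTorsion_iff_stalks.2 fun Ω _ _ ξ t => ?_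
  haveI : (EtCoh.stalk ξ).Additive := Functor.additive_of_preserves_binary_products _
  obtain ⟨w, rfl⟩ := (L27.EtSite.epi_iff_stalks (biprod.desc a b)).1 inferInstance Ω ξ t
  obtain ⟨m, hm, hm0⟩ := L28.EtTor.isLTorsion_iff_stalks.1 hF Ω ξ ((EtCoh.stalk ξ).map biprod.fst w)
  obtain ⟨k, hk, hk0⟩ := L28.EtTor.isLTorsion_iff_stalks.1 hG Ω ξ ((EtCoh.stalk ξ).map biprod.snd w)
  have e : (EtCoh.stalk ξ).map (biprod.desc a b) =
      (EtCoh.stalk ξ).map biprod.fst ≫ (EtCoh.stalk ξ).map a +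
        (EtCoh.stalk ξ).map biprod.snd ≫ (EtCoh.stalk ξ).map b := by
    rw [← Functor.map_comp, ← Functor.map_comp, ← Functor.map_add, biprod.desc_eq]
  refine ⟨m * k, ⟨Nat.mul_pos hm.1 hk.1, fun p hp hd => (hp.dvd_mul.1 hd).elim (hm.2 p hp) (hk.2 p hp)⟩, ?_⟩
  rw [e]
  show (m * k) • ((EtCoh.stalk ξ).map a ((EtCoh.stalk ξ).map biprod.fst w) +
    (EtCoh.stalk ξ).map b ((EtCoh.stalk ξ).map biprod.snd w)) = 0
  have ha : (m * k) • (EtCoh.stalk ξ).map biprod.fst w = 0 := by rw [mul_comm, mul_nsmul', hm0, smul_zero]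
  have hb : (m * k) • (EtCoh.stalk ξ).map biprod.snd w = 0 := by rw [mul_nsmul', hk0, smul_zero]
  rw [nsmul_add]
  exact (congrArg₂ (· + ·) ((map_nsmul _ _ _).symm.trans ((congrArg _ ha).trans (map_zero _)))
    ((map_nsmul _ _ _).symm.trans ((congrArg _ hb).trans (map_zero _)))).trans (add_zero _)

/-- Constant sheaves of finite groups with order in `L` are `L`-torsion. -/
theorem isLTorsion_const (Y : Scheme.{u}) (M : Type) [AddCommGroup M] [Finite M]
    (hM : ∀ p : ℕ, p.Prime → p ∣ Nat.card M → p ∈ L) : EtAcyc.IsLTorsion L (EtCoh.const Y M) := fun U s x =>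
  ⟨U, 𝟙 U, Nat.card M, ⟨x, rfl⟩, ⟨Nat.card_pos, hM⟩, L27.ProperH1.killedBy_const M U _⟩

theorem isLTorsion_biproduct {m : ℕ} (P : Fin m → EtCoh.Ab X) (hP : ∀ j, EtAcyc.IsLTorsion L (P j)) :
    EtAcyc.IsLTorsion L (⨁ P) := by
  refine L28.EtTor.isLTorsion_iff_stalks.2 fun Ω _ _ ξ t => ?_
  choose mk hmk hk0 using fun k => L28.EtTor.isLTorsion_iff_stalks.1 (hP k) Ω ξ ((EtCoh.stalk ξ).map (biproduct.π P k) t)
  refine ⟨∏ k, mk k, ⟨Finset.prod_pos fun k _ => (hmk k).1, fun p hp hd => ?_⟩, ?_⟩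
  · obtain ⟨k, -, hk⟩ := (Prime.dvd_finsetProd_iff hp.prime _).1 hd
    exact (hmk k).2 p hp hk
  haveI : (EtCoh.stalk ξ).Additive := Functor.additive_of_preserves_binary_products _
  have e : ∑ k, (EtCoh.stalk ξ).map (biproduct.π P k) ≫ (EtCoh.stalk ξ).map (biproduct.ι P k) =
      𝟙 ((EtCoh.stalk ξ).obj (⨁ P)) := by
    rw [← CategoryTheory.Functor.map_id, ← IsBilimit.total (biproduct.isBilimit P), Functor.map_sum]
    simp
  have ht : t = ∑ k, (EtCoh.stalk ξ).map (biproduct.ι P k) ((EtCoh.stalk ξ).map (biproduct.π P k) t) :=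
    ((ConcreteCategory.congr_hom e t).symm.trans (L27.PBC.hom_sum_apply _ _ _)).trans rfl
  rw [ht, Finset.smul_sum]
  refine Finset.sum_eq_zero fun k hk => ?_
  have h0 : (∏ l, mk l) • (EtCoh.stalk ξ).map (biproduct.π P k) t = 0 := by
    rw [← Finset.prod_erase_mul _ _ hk, mul_nsmul', hk0 k, smul_zero]
  exact (map_nsmul ((EtCoh.stalk ξ).map (biproduct.ι P k)).hom (∏ l, mk l)
    ((EtCoh.stalk ξ).map (biproduct.π P k) t)).symm.trans ((congrArg _ h0).trans (map_zero _))

/-- Injectivity one degree above bijectivity. -/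
theorem injective_succ [CompactSpace X] [QuasiSeparatedSpace X] (n : ℕ)
    (h : ∀ F : EtCoh.Ab X, EtAcyc.IsLTorsion L F → Function.Bijective (EtCore.Hpull i F n))
    (F : EtCoh.Ab X) (hF : EtAcyc.IsLTorsion L F) : Function.Injective (EtCore.Hpull i F (n + 1)) := by
  refine (injective_iff_map_eq_zero _).2 fun x hx => ?_
  obtain ⟨G, φ, _, hG, hGv, -⟩ := L27.CompTransfer.exists_torsion_effacement L F hF
  have hE : (ShortComplex.mk φ (cokernel.π φ) (cokernel.condition φ)).ShortExact :=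
    { exact := ShortComplex.exact_of_g_is_cokernel _ (cokernelIsCokernel φ) }
  have hQ := L27.CompTransfer.isLTorsion_of_epi (cokernel.π φ) hG
  haveI := hGv n
  obtain ⟨y, rfl⟩ := exists_δH hE n x (Subsingleton.elim (α := EtCoh.H X G (n + 1)) _ _)
  have hy := (Hpull_δH i hE n y).symm.trans hx
  obtain ⟨z, hz⟩ := exists_map_of_δH_eq_zero (hE.map_of_exact (EtCoh.pull i)) n _ hy
  obtain ⟨z', rfl⟩ := (h G hG).2 z
  have : y = (EtCoh.HF X n).map (cokernel.π φ) z' :=
    (h _ hQ).1 (hz.symm.trans (Hpull_map i (cokernel.π φ) n z').symm)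
  rw [this]
  exact δH_map_g hE n z'

/-- A morphism from a sheaf killed by `a * b` to an `L`-torsion sheaf is killed by `a` when `b` is prime to `L`. -/
theorem nsmul_eq_zero_of_isLTorsion {C F : EtCoh.Ab X} (c : C ⟶ F) (hF : EtAcyc.IsLTorsion L F) {a b : ℕ}
    (hC : (a * b) • 𝟙 C = 0) (hb : ∀ p : ℕ, p.Prime → p ∣ b → p ∉ L) : a • c = 0 := by
  refine Sheaf.hom_ext (NatTrans.ext (funext fun U => ConcreteCategory.hom_ext _ _ fun s => ?_))
  let ev : (C ⟶ F) →+ EtCoh.sect F U.unop :=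
    { toFun := fun m => m.hom.app U s, map_zero' := rfl, map_add' := fun _ _ => rfl }
  refine (map_nsmul ev a c).trans ?_
  show a • c.hom.app U s = 0
  refine L27.EtSite.ext_of_locally F fun x => ?_
  obtain ⟨V, g, m, ⟨v, hv⟩, hm, h0⟩ := hF U.unop (c.hom.app U s) x
  refine ⟨V, g, v, hv, ?_⟩
  rw [map_nsmul, map_zero]
  have hn : c.hom.app (op V) (C.obj.map g.op s) = F.obj.map g.op (c.hom.app U s) :=
    NatTrans.naturality_apply c.hom g.op s
  have hb0 : b • (a • F.obj.map g.op (c.hom.app U s)) = 0 := by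
    rw [← mul_nsmul', mul_comm b a, ← hn, ← map_nsmul,
      show (a * b) • C.obj.map g.op s = 0 from L28.ExtShriek.killed_of_nsmul_id hC V _, map_zero]
  have hm0 : m • (a • F.obj.map g.op (c.hom.app U s)) = 0 := by
    rw [← mul_nsmul', mul_comm, mul_nsmul', h0, nsmul_zero]
  exact AddMonoid.addOrderOf_eq_one_iff.1 (Nat.dvd_one.1
    ((Nat.coprime_of_dvd fun p hp h1 h2 => hb p hp h2 (hm.2 p hp h1) : Nat.Coprime m b) ▸
      Nat.dvd_gcd (addOrderOf_dvd_of_nsmul_eq_zero hm0) (addOrderOf_dvd_of_nsmul_eq_zero hb0)))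

/-- Effacement downstairs from surjectivity for finite constant coefficients of order in `L`. -/
theorem exists_effacement_L [CompactSpace X] [QuasiSeparatedSpace X] [CompactSpace Z] [QuasiSeparatedSpace Z]
    (n : ℕ)
    (hs : ∀ (X' : Scheme.{u}) (p : X' ⟶ X) [IsFinite p] (M : Type) [AddCommGroup M] [Finite M]
      [PreservesFiniteLimits (EtCoh.pull (pullback.fst p i))], (∀ p : ℕ, p.Prime → p ∣ Nat.card M → p ∈ L) →
      Function.Surjective (EtCore.Hpull (pullback.fst p i) (EtCoh.const X' M) (n + 1)))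
    (F : EtCoh.Ab X) (hF : EtAcyc.IsLTorsion L F) (ξ : EtCoh.H Z ((EtCoh.pull i).obj F) (n + 1)) :
    ∃ (F' : EtCoh.Ab X) (φ : F ⟶ F'), Mono φ ∧ EtAcyc.IsLTorsion L F' ∧
      (EtCoh.HF Z (n + 1)).map ((EtCoh.pull i).map φ) ξ = 0 := by
  obtain ⟨hc⟩ := L28.ExtShriek.isColimit_presCocone (F := F) (L27.AffineEfface.isTorsion_of_isLTorsion hF)
  haveI : PreservesColimitsOfSize.{u + 1, u + 1} (EtCoh.pull i) :=
    (EtCoh.pullPushAdj i).leftAdjoint_preservesColimits
  obtain ⟨⟨j, η, hη⟩⟩ : Nonempty (Σ' (j : L28.ExtShriek.PresOver F)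
      (η : Sheaf.H ((EtCoh.pull i).obj ((L28.ExtShriek.presDiag F).obj j)) (n + 1)),
      Sheaf.H.map ((EtCoh.pull i).map ((L28.ExtShriek.presCocone F).ι.app j)) (n + 1) η = ξ) := by
    obtain ⟨j, η, hη⟩ := (L28.ColimBig.commutes L27.Colim.good (EtCore.topIsTerminal Z) ⟨‹_›, ‹_›⟩ (n + 1)
      (L28.ExtShriek.presDiag F ⋙ EtCoh.pull i) ((EtCoh.pull i).mapCocone (L28.ExtShriek.presCocone F))
      (isColimitOfPreserves (EtCoh.pull i) hc)).1 ξ
    exact ⟨⟨j, η, hη⟩⟩
  let C : EtCoh.Ab X := j.1.obj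
  let c : C ⟶ F := (L28.ExtShriek.presCocone F).ι.app j
  obtain ⟨m, Y, p, hp, -, M, hM1, hM2, ι, hι⟩ := L27.EmbedFinitePush.exists_embedding (F := C) j.1.isConstructible_obj
  haveI := hι
  -- separate the good primes
  have hN : (∏ l, Nat.card (M l)) • 𝟙 C = 0 :=
    CurveFin.nsmul_id_of_mono ι (CurveFin.nsmul_id_biproduct_push Y p M _ fun l x => by
      obtain ⟨d, hd⟩ : Nat.card (M l) ∣ ∏ l, Nat.card (M l) := Finset.dvd_prod_of_mem _ (Finset.mem_univ l)
      rw [hd, mul_nsmul, card_nsmul_eq_zero', nsmul_zero])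
  obtain ⟨a, b, hab, ha, hb⟩ := CurveFin.exists_factor (· ∈ L) (∏ l, Nat.card (M l))
    (Finset.prod_pos fun l _ => Nat.card_pos)
  rw [hab] at hN
  have hcop : Nat.Coprime a b := Nat.coprime_of_dvd fun r hr h1 h2 => hb r hr h2 (ha r hr h1)
  obtain ⟨e, he1, he0⟩ := Nat.chineseRemainder hcop 1 0
  have hce : e • c = c := by
    have hac := nsmul_eq_zero_of_isLTorsion L c hF hN hb
    have h0 : ∀ t, (a * t) • c = 0 := fun t => by rw [mul_comm, mul_nsmul', hac, smul_zero]
    calc e • c = (e % a) • c := by conv_lhs => rw [← Nat.mod_add_div e a, add_nsmul, h0, add_zero]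
      _ = (1 % a) • c := by rw [show e % a = 1 % a from he1]
      _ = c := by conv_rhs => rw [← one_nsmul c, ← Nat.mod_add_div 1 a, add_nsmul, h0, add_zero]
  let M' : Fin m → Type := fun l => ↥(nsmulAddMonoidHom (α := M l) e).range
  let s : ∀ l, M l →+ M' l := fun l => (nsmulAddMonoidHom (α := M l) e).rangeRestrict
  let t : ∀ l, M' l →+ M l := fun l => (nsmulAddMonoidHom (α := M l) e).range.subtype
  have hgM : ∀ l, ∀ r : ℕ, r.Prime → r ∣ Nat.card (M' l) → r ∈ L := fun l r hr hrd => by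
    haveI : Fact r.Prime := ⟨hr⟩
    obtain ⟨x, hx⟩ := exists_prime_addOrderOf_dvd_card' r hrd
    refine ha r hr (hx ▸ addOrderOf_dvd_of_nsmul_eq_zero ?_)
    obtain ⟨_, y, rfl⟩ := x
    refine Subtype.ext ?_
    show a • (e • y) = 0
    obtain ⟨d, hd⟩ : b ∣ e := Nat.modEq_zero_iff_dvd.1 he0
    obtain ⟨d', hd'⟩ : Nat.card (M l) ∣ a * b := hab ▸ Finset.dvd_prod_of_mem _ (Finset.mem_univ l)
    rw [hd, ← mul_nsmul', ← mul_assoc, hd', mul_assoc, mul_nsmul, card_nsmul_eq_zero', nsmul_zero]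
  let P : Fin m → EtCoh.Ab X := fun l => (EtCoh.push (p l)).obj (EtCoh.const (Y l) (M' l))
  let σ : C ⟶ ⨁ P := ι ≫ biproduct.map fun l => (EtCoh.push (p l)).map (cMap (Y l) (s l))
  have hσ : σ ≫ biproduct.map (fun l => (EtCoh.push (p l)).map (cMap (Y l) (t l))) = e • ι := by
    refine biproduct.hom_ext _ _ fun l => ?_
    haveI : (EtCoh.push (p l)).Additive := (EtCoh.pullPushAdj (p l)).right_adjoint_additive
    simp only [σ, Category.assoc, biproduct.map_π, biproduct.map_π_assoc]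
    rw [← Functor.map_comp, CurveFin.cMap_comp, show (t l).comp (s l) = e • AddMonoidHom.id (M l) from AddMonoidHom.ext fun _ => rfl,
      CurveFin.cMap_nsmul, CurveFin.cMap_id, Functor.map_nsmul, CategoryTheory.Functor.map_id, Preadditive.comp_nsmul,
      Preadditive.comp_nsmul, Category.comp_id, Preadditive.nsmul_comp]
  have hker : kernel.ι σ ≫ c = 0 := by
    have h1 : e • kernel.ι σ = 0 := (cancel_mono ι).1 (by
      rw [Preadditive.nsmul_comp, ← Preadditive.comp_nsmul, ← hσ, kernel.condition_assoc, zero_comp, zero_comp])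
    calc kernel.ι σ ≫ c = kernel.ι σ ≫ (e • c) := by rw [hce]
      _ = (e • kernel.ι σ) ≫ c := by rw [Preadditive.comp_nsmul, Preadditive.nsmul_comp]
      _ = 0 := by rw [h1, zero_comp]
  let C' : EtCoh.Ab X := Abelian.coimage σ
  let c' : C' ⟶ F := cokernel.desc (kernel.ι σ) c hker
  let ι' : C' ⟶ ⨁ P := Abelian.factorThruCoimage σ
  let η' : EtCoh.H Z ((EtCoh.pull i).obj C') (n + 1) :=
    (EtCoh.HF Z (n + 1)).map ((EtCoh.pull i).map (Abelian.coimage.π σ)) η
  let ζ : EtCoh.H Z ((EtCoh.pull i).obj (⨁ P)) (n + 1) := (EtCoh.HF Z (n + 1)).map ((EtCoh.pull i).map ι') η'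
  have hk : ∀ l, ∃ y, EtCore.Hpull i (P l) (n + 1) y =
      (EtCoh.HF Z (n + 1)).map ((EtCoh.pull i).map (biproduct.π P l)) ζ := fun l => by
    haveI := hp l
    haveI := L27.EtSite.preservesFiniteLimits_pull (pullback.fst (p l) i)
    exact L27.PBC.exists_preimage_push i (p l) _ (n + 1) (hs (Y l) (p l) (M' l) (hgM l)) _
  choose y hy using hk
  let x : EtCoh.H X (⨁ P) (n + 1) := ∑ l, (EtCoh.HF X (n + 1)).map (biproduct.ι P l) (y l)
  have hx : EtCore.Hpull i (⨁ P) (n + 1) x = ζ := by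
    haveI : (EtCoh.pull i).Additive := (EtCoh.pullPushAdj i).left_adjoint_additive
    haveI := L28.CurveCd.HF_additive Z (n + 1)
    rw [map_sum]
    refine (Finset.sum_congr rfl fun l _ => (Hpull_map i (biproduct.ι P l) (n + 1) (y l)).trans
      ((congrArg ((EtCoh.HF Z (n + 1)).map ((EtCoh.pull i).map (biproduct.ι P l))) (hy l)).trans
        (HF_map_comp ((EtCoh.pull i).map (biproduct.π P l)) ((EtCoh.pull i).map (biproduct.ι P l)) (n + 1) ζ).symm)).trans ?_
    have et : ∑ l, (EtCoh.pull i).map (biproduct.π P l) ≫ (EtCoh.pull i).map (biproduct.ι P l) =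
        𝟙 ((EtCoh.pull i).obj (⨁ P)) := by
      rw [← CategoryTheory.Functor.map_id, ← IsBilimit.total (biproduct.isBilimit P), Functor.map_sum]
      simp
    have := congrArg (fun φ => (EtCoh.HF Z (n + 1)).map φ ζ) et
    simp only [Functor.map_sum, CategoryTheory.Functor.map_id] at this
    refine Eq.trans ?_ (this.trans rfl)
    exact (L27.PBC.hom_sum_apply _ _ _).symm
  have hG : EtAcyc.IsLTorsion L (⨁ P) := isLTorsion_biproduct L P fun l => by
    haveI := hp l
    exact L27.CompTransfer.isLTorsion_push L (p l) (isLTorsion_const L (Y l) (M' l) (hgM l))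
  haveI : Mono ι' := inferInstanceAs (Mono (Abelian.factorThruCoimage σ))
  haveI : Mono (pushout.inl c' ι') := inferInstance
  haveI : Epi (biprod.desc (pushout.inl c' ι') (pushout.inr c' ι')) := ⟨fun g h e => pushout.hom_ext
    (by simpa using congrArg (biprod.inl ≫ ·) e) (by simpa using congrArg (biprod.inr ≫ ·) e)⟩
  have hF₁ : EtAcyc.IsLTorsion L (pushout c' ι') :=
    isLTorsion_of_epi_desc L (pushout.inl c' ι') (pushout.inr c' ι') hF hG
  obtain ⟨F', v, hv, hF', hF'v, -⟩ := L27.CompTransfer.exists_torsion_effacement L _ hF₁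
  refine ⟨F', pushout.inl c' ι' ≫ v, mono_comp _ _, hF', ?_⟩
  haveI := hF'v n
  have e' : (EtCoh.pull i).map c' ≫ (EtCoh.pull i).map (pushout.inl c' ι' ≫ v) =
      (EtCoh.pull i).map ι' ≫ (EtCoh.pull i).map (pushout.inr c' ι' ≫ v) := by
    rw [← Functor.map_comp, ← Functor.map_comp, ← Category.assoc, pushout.condition, Category.assoc]
  have hη' : (EtCoh.HF Z (n + 1)).map ((EtCoh.pull i).map c') η' = ξ := by
    refine (HF_map_comp ((EtCoh.pull i).map (Abelian.coimage.π σ)) ((EtCoh.pull i).map c') (n + 1) η).symm.trans ?_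
    rw [← Functor.map_comp, show Abelian.coimage.π σ ≫ c' = c from cokernel.π_desc _ _ _]
    exact hη
  rw [← hη']
  refine (HF_map_comp ((EtCoh.pull i).map c') ((EtCoh.pull i).map (pushout.inl c' ι' ≫ v)) (n + 1) η').symm.trans ?_
  refine (congrArg (fun f => (EtCoh.HF Z (n + 1)).map f η') e').trans ?_
  refine (HF_map_comp _ _ (n + 1) η').trans ?_
  refine (congrArg _ hx.symm).trans ((Hpull_map i (pushout.inr c' ι' ≫ v) (n + 1) x).symm.trans ?_)
  exact (congrArg _ (Subsingleton.elim (α := EtCoh.H X F' (n + 1)) _ 0)).trans (map_zero _)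

/-- Pullback is bijective on `L`-torsion cohomology when it is so in degree zero and surjective for constants. -/
theorem bijective_of_const [CompactSpace X] [QuasiSeparatedSpace X] [CompactSpace Z] [QuasiSeparatedSpace Z]
    (h0 : ∀ F : EtCoh.Ab X, EtAcyc.IsLTorsion L F → Function.Bijective (EtCore.Hpull i F 0))
    (hs : ∀ (n : ℕ) (X' : Scheme.{u}) (p : X' ⟶ X) [IsFinite p] (M : Type) [AddCommGroup M] [Finite M]
      [PreservesFiniteLimits (EtCoh.pull (pullback.fst p i))], (∀ p : ℕ, p.Prime → p ∣ Nat.card M → p ∈ L) →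
      Function.Surjective (EtCore.Hpull (pullback.fst p i) (EtCoh.const X' M) (n + 1))) :
    ∀ (q : ℕ) (F : EtCoh.Ab X), EtAcyc.IsLTorsion L F → Function.Bijective (EtCore.Hpull i F q) := by
  intro q
  induction q with
  | zero => exact h0
  | succ n ih =>
    intro F hF
    refine ⟨injective_succ i L n ih F hF, fun ξ => ?_⟩
    obtain ⟨F', φ, _, hF', hφ⟩ := exists_effacement_L i L n (hs n) F hF ξ
    have hE : (ShortComplex.mk φ (cokernel.π φ) (cokernel.condition φ)).ShortExact :=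
      { exact := ShortComplex.exact_of_g_is_cokernel _ (cokernelIsCokernel φ) }
    have hQ := L27.CompTransfer.isLTorsion_of_epi (cokernel.π φ) hF'
    obtain ⟨y, rfl⟩ := exists_δH (hE.map_of_exact (EtCoh.pull i)) n ξ hφ
    obtain ⟨y', rfl⟩ := (ih _ hQ).2 y
    exact ⟨δH hE n y', Hpull_δH i hE n y'⟩

end Groth.L21.CurveExt
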