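import Groth.Agent.L27.PBC.Efface

/-!
# Bijectivity of pullback in cohomology along exact sequences
-/

set_option autoImplicit false
set_option linter.style.haveILetI false
set_option maxHeartbeats 400000
set_option linter.unusedSectionVars false
set_option backward.isDefEq.respectTransparency false
set_option backward.isDefEq.respectTransparency.types false

universe u

open CategoryTheory CategoryTheory.Limits AlgebraicGeometry Opposite CategoryTheory.Abelian

noncomputable section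

namespace Groth.L21.CurveExt

open Groth.L27.LimCoh

variable {X Z : Scheme.{u}} (i : Z ⟶ X) [PreservesFiniteLimits (EtCoh.pull i)]

/-- Pullback is bijective in all degrees. -/
def Bij (F : EtCoh.Ab X) : Prop := ∀ q, Function.Bijective (EtCore.Hpull i F q)

variable {i}

theorem bij_of_iso {F G : EtCoh.Ab X} (e : F ≅ G) (h : Bij i F) : Bij i G := fun q => by
  have e1 := ConcreteCategory.bijective_of_isIso ((EtCoh.HF X q).map e.hom)
  have e2 := ConcreteCategory.bijective_of_isIso ((EtCoh.HF Z q).map ((EtCoh.pull i).map e.hom))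
  have hc : (EtCore.Hpull i G q) ∘ (EtCoh.HF X q).map e.hom =
      (EtCoh.HF Z q).map ((EtCoh.pull i).map e.hom) ∘ EtCore.Hpull i F q := funext fun x => Hpull_map i e.hom q x
  exact (Function.Bijective.of_comp_iff _ e1).1 (hc ▸ e2.comp (h q))

variable {S : ShortComplex (EtCoh.Ab X)} (hS : S.ShortExact)

include hS

theorem exists_map_f (q : ℕ) (x : EtCoh.H X S.X₂ q) (hx : (EtCoh.HF X q).map S.g x = 0) :
    ∃ a, (EtCoh.HF X q).map S.f a = x := by
  obtain ⟨a, ha⟩ := Ext.covariant_sequence_exact₂ _ hS x ((Groth.L27.EtSite.HF_map_apply S.g q x).symm.trans hx)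
  exact ⟨a, (Groth.L27.EtSite.HF_map_apply S.f q a).trans ha⟩

theorem eq_zero_of_map_f_zero (x : EtCoh.H X S.X₁ 0) (hx : (EtCoh.HF X 0).map S.f x = 0) : x = 0 := by
  haveI := hS.mono_f
  obtain ⟨a, rfl⟩ := (Ext.mk₀_bijective _ _).2 x
  rw [Groth.L27.EtSite.HF_map_apply, Ext.mk₀_comp_mk₀] at hx
  have h0 : a ≫ S.f = 0 := (Ext.mk₀_bijective _ _).1 (hx.trans (Ext.mk₀_zero _ _).symm)
  rw [zero_of_comp_mono _ h0]
  exact Ext.mk₀_zero _ _

theorem map_δH_f (q : ℕ) (y : EtCoh.H X S.X₃ q) : (EtCoh.HF X (q + 1)).map S.f (δH hS q y) = 0 :=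
  (Groth.L27.EtSite.HF_map_apply S.f (q + 1) _).trans
    (((Ext.comp_assoc_of_third_deg_zero y hS.extClass (Ext.mk₀ S.f) rfl).trans
      (congrArg (fun t => Ext.comp y t rfl) hS.extClass_comp)).trans (Ext.comp_zero _ _ _ _ _))

theorem map_g_f (q : ℕ) (y : EtCoh.H X S.X₁ q) : (EtCoh.HF X q).map S.g ((EtCoh.HF X q).map S.f y) = 0 :=
  (HF_map_comp S.f S.g q y).symm.trans ((congrArg (fun m => (EtCoh.HF X q).map m y) S.zero).trans
    ((Groth.L27.EtSite.HF_map_apply (0 : S.X₁ ⟶ S.X₃) q y).trans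
      ((congrArg (fun t => Ext.comp y t (add_zero q)) (Ext.mk₀_zero S.X₁ S.X₃)).trans (Ext.comp_zero _ _ _ _ _))))

theorem surjective_middle (q : ℕ) (h₁ : Function.Surjective (EtCore.Hpull i S.X₁ q))
    (h₃ : Function.Surjective (EtCore.Hpull i S.X₃ q)) (h₁' : Function.Injective (EtCore.Hpull i S.X₁ (q + 1))) :
    Function.Surjective (EtCore.Hpull i S.X₂ q) := fun c => by
  have hS' := hS.map_of_exact (EtCoh.pull i)
  obtain ⟨y, hy⟩ := h₃ ((EtCoh.HF Z q).map ((EtCoh.pull i).map S.g) c)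
  have hd : δH hS q y = 0 := h₁' (by rw [Hpull_δH i hS, hy, map_zero]; exact δH_map_g hS' q c)
  obtain ⟨z, hz⟩ := exists_map_of_δH_eq_zero hS q y hd
  have h0 : (EtCoh.HF Z q).map ((EtCoh.pull i).map S.g) (c - EtCore.Hpull i S.X₂ q z) = 0 := by
    rw [map_sub, ← Hpull_map, hz, hy, sub_self]
  obtain ⟨a, ha⟩ := exists_map_f hS' q _ h0
  obtain ⟨a', rfl⟩ := h₁ a
  refine ⟨z + (EtCoh.HF X q).map S.f a', ?_⟩
  rw [map_add, Hpull_map]
  exact (congrArg (EtCore.Hpull i S.X₂ q z + ·) ha).trans (add_sub_cancel _ _)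

theorem injective_middle (q : ℕ) (h₁ : Function.Injective (EtCore.Hpull i S.X₁ q))
    (h₃ : Function.Injective (EtCore.Hpull i S.X₃ q))
    (h₃' : ∀ p, q = p + 1 → Function.Surjective (EtCore.Hpull i S.X₃ p)) :
    Function.Injective (EtCore.Hpull i S.X₂ q) := by
  have hS' := hS.map_of_exact (EtCoh.pull i)
  refine (injective_iff_map_eq_zero _).2 fun x hx => ?_
  obtain ⟨a, rfl⟩ := exists_map_f hS q x (h₃ (by rw [Hpull_map, hx, map_zero, map_zero]))
  rw [Hpull_map] at hx
  rcases q with _ | p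
  · have : a = 0 := h₁ ((eq_zero_of_map_f_zero hS' _ hx).trans (map_zero _).symm)
    rw [this, map_zero]
  · obtain ⟨y, hy⟩ := exists_δH hS' p _ hx
    obtain ⟨y', rfl⟩ := h₃' p rfl y
    rw [h₁ (hy.symm.trans (Hpull_δH i hS p y').symm)]
    exact map_δH_f hS p y'

theorem surjective_left (q : ℕ) (h₂ : Function.Surjective (EtCore.Hpull i S.X₂ q))
    (h₃ : Function.Injective (EtCore.Hpull i S.X₃ q))
    (h₃' : ∀ p, q = p + 1 → Function.Surjective (EtCore.Hpull i S.X₃ p)) :
    Function.Surjective (EtCore.Hpull i S.X₁ q) := fun c => by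
  have hS' := hS.map_of_exact (EtCoh.pull i)
  obtain ⟨x, hx⟩ := h₂ ((EtCoh.HF Z q).map ((EtCoh.pull i).map S.f) c)
  obtain ⟨a, rfl⟩ := exists_map_f hS q x (h₃ (by rw [Hpull_map, hx, map_zero]; exact map_g_f hS' q c))
  rw [Hpull_map] at hx
  rcases q with _ | p
  · refine ⟨a, sub_eq_zero.1 (eq_zero_of_map_f_zero hS' _ ?_)⟩
    exact (map_sub ((EtCoh.HF Z 0).map ((EtCoh.pull i).map S.f)).hom _ _).trans (sub_eq_zero.2 hx)
  · have h0 : (EtCoh.HF Z (p + 1)).map ((EtCoh.pull i).map S.f) (c - EtCore.Hpull i S.X₁ (p + 1) a) = 0 :=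
      (map_sub ((EtCoh.HF Z (p + 1)).map ((EtCoh.pull i).map S.f)).hom _ _).trans (sub_eq_zero.2 hx.symm)
    obtain ⟨y, hy⟩ := exists_δH hS' p _ h0
    obtain ⟨y', rfl⟩ := h₃' p rfl y
    refine ⟨(show EtCoh.H X S.X₁ (p + 1) from a) + δH hS p y', ?_⟩
    rw [map_add, Hpull_δH i hS]
    exact (congrArg (EtCore.Hpull i S.X₁ (p + 1) a + ·) hy).trans (add_sub_cancel _ _)

theorem injective_left (q : ℕ) (h₂ : Function.Injective (EtCore.Hpull i S.X₂ q))
    (h₃ : ∀ p, q = p + 1 → Function.Injective (EtCore.Hpull i S.X₃ p))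
    (h₂' : ∀ p, q = p + 1 → Function.Surjective (EtCore.Hpull i S.X₂ p)) :
    Function.Injective (EtCore.Hpull i S.X₁ q) := by
  have hS' := hS.map_of_exact (EtCoh.pull i)
  refine (injective_iff_map_eq_zero _).2 fun x hx => ?_
  have hf : (EtCoh.HF X q).map S.f x = 0 := h₂ (by rw [Hpull_map, hx, map_zero, map_zero])
  rcases q with _ | p
  · exact eq_zero_of_map_f_zero hS x hf
  · obtain ⟨y, rfl⟩ := exists_δH hS p x hf
    rw [Hpull_δH i hS] at hx
    obtain ⟨z, hz⟩ := exists_map_of_δH_eq_zero hS' p _ hx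
    obtain ⟨z', rfl⟩ := h₂' p rfl z
    have : y = (EtCoh.HF X p).map S.g z' := h₃ p rfl (hz.symm.trans (Hpull_map i S.g p z').symm)
    rw [this]
    exact δH_map_g hS p z'

theorem bij_middle (h₁ : Bij i S.X₁) (h₃ : Bij i S.X₃) : Bij i S.X₂ := fun q =>
  ⟨injective_middle hS q (h₁ q).1 (h₃ q).1 fun p _ => (h₃ p).2, surjective_middle hS q (h₁ q).2 (h₃ q).2 (h₁ _).1⟩

theorem bij_left (h₂ : Bij i S.X₂) (h₃ : Bij i S.X₃) : Bij i S.X₁ := fun q =>
  ⟨injective_left hS q (h₂ q).1 (fun p _ => (h₃ p).1) fun p _ => (h₂ p).2,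
    surjective_left hS q (h₂ q).2 (h₃ q).1 fun p _ => (h₃ p).2⟩

omit hS

/-- Bijectivity is insensitive to kernels and cokernels with bijective pullback. -/
theorem bij_of_ker_coker {F G : EtCoh.Ab X} (φ : F ⟶ G) (hK : Bij i (kernel φ)) (hC : Bij i (cokernel φ))
    (hG : Bij i G) : Bij i F := by
  let E₁ : ShortComplex (EtCoh.Ab X) := ShortComplex.mk (kernel.ι φ) (Abelian.factorThruImage φ)
    ((cancel_mono (Abelian.image.ι φ)).1 (by simp))
  let E₂ : ShortComplex (EtCoh.Ab X) := ShortComplex.mk (Abelian.image.ι φ) (cokernel.π φ) (by simp)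
  have hE₁ : E₁.ShortExact :=
    { exact := ShortComplex.exact_of_f_is_kernel _ (KernelFork.IsLimit.ofι' _ _ fun g hg =>
        ⟨kernel.lift φ g (by
          have := congrArg (· ≫ Abelian.image.ι φ) hg
          simpa only [E₁, Category.assoc, Abelian.image.fac, zero_comp] using this), kernel.lift_ι _ _ _⟩) }
  have hE₂ : E₂.ShortExact := { exact := ShortComplex.exact_of_f_is_kernel _ (kernelIsKernel _) }
  exact bij_middle hE₁ hK (bij_left hE₂ hG hC)

/-- Bijectivity for finite biproducts. -/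
theorem bij_biproduct {n : ℕ} (P : Fin n → EtCoh.Ab X) (h : ∀ j, Bij i (P j)) : Bij i (⨁ P) := fun q => by
  haveI : (EtCoh.pull i).Additive := (EtCoh.pullPushAdj i).left_adjoint_additive
  haveI := Groth.L28.CurveCd.HF_additive Z q
  haveI := Groth.L28.CurveCd.HF_additive X q
  have hsum : ∀ x : EtCoh.H X (⨁ P) q,
      ∑ j, (EtCoh.HF X q).map (biproduct.ι P j) ((EtCoh.HF X q).map (biproduct.π P j) x) = x := fun x => by
    refine ((Finset.sum_congr rfl fun j _ => (HF_map_comp _ _ q x).symm).trans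
      (Groth.L27.PBC.hom_sum_apply _ _ _).symm).trans ?_
    rw [← Functor.map_sum, show ∑ j, biproduct.π P j ≫ biproduct.ι P j = 𝟙 (⨁ P) from
      (IsBilimit.total (biproduct.isBilimit P))]
    rw [CategoryTheory.Functor.map_id]
    rfl
  refine ⟨(injective_iff_map_eq_zero _).2 fun x hx => ?_, fun c => ?_⟩
  · rw [← hsum x]
    refine Finset.sum_eq_zero fun j _ => ?_
    rw [show (EtCoh.HF X q).map (biproduct.π P j) x = 0 from (h j q).1 (by
      rw [Hpull_map, hx, map_zero, map_zero]), map_zero]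
  · choose y hy using fun j => (h j q).2 ((EtCoh.HF Z q).map ((EtCoh.pull i).map (biproduct.π P j)) c)
    refine ⟨∑ j, (EtCoh.HF X q).map (biproduct.ι P j) (y j), ?_⟩
    rw [map_sum]
    refine ((Finset.sum_congr rfl fun j _ => (Hpull_map i (biproduct.ι P j) q (y j)).trans
      ((congrArg _ (hy j)).trans (HF_map_comp _ _ q c).symm)).trans
      (Groth.L27.PBC.hom_sum_apply _ _ _).symm).trans ?_
    rw [← Functor.map_sum]
    simp only [← Functor.map_comp]
    rw [← Functor.map_sum, show ∑ j, biproduct.π P j ≫ biproduct.ι P j = 𝟙 (⨁ P) from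
      (IsBilimit.total (biproduct.isBilimit P))]
    simp only [CategoryTheory.Functor.map_id]
    rfl

/-- Bijectivity when both sides vanish in positive degrees. -/
theorem bij_of_acyclic {F : EtCoh.Ab X} (h0 : Function.Bijective (EtCore.Hpull i F 0))
    (hX : ∀ q, Subsingleton (EtCoh.H X F (q + 1)))
    (hZ : ∀ q, Subsingleton (EtCoh.H Z ((EtCoh.pull i).obj F) (q + 1))) : Bij i F := fun q => by
  rcases q with _ | q
  · exact h0
  · haveI := hX q
    haveI := hZ q
    exact ⟨fun a b _ => Subsingleton.elim a b, fun b => ⟨0, Subsingleton.elim _ b⟩⟩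

/-- Pullback along a finite direct image. -/
theorem bij_push {X' : Scheme.{u}} (p : X' ⟶ X) [IsFinite p]
    [PreservesFiniteLimits (EtCoh.pull (pullback.fst p i))] (K : EtCoh.Ab X')
    (h : Bij (pullback.fst p i) K) : Bij i ((EtCoh.push p).obj K) := fun q => by
  refine ⟨(injective_iff_map_eq_zero _).2 fun x hx => ?_,
    fun c => Groth.L27.PBC.exists_preimage_push i p K q (h q).2 c⟩
  let p' := pullback.snd p i
  let i' := pullback.fst p i
  haveI := Groth.L27.EtSite.preservesFiniteLimits_pull p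
  haveI := Groth.L27.EtSite.preservesFiniteLimits_pull p'
  haveI := Groth.Agent.S0621.result p i p' i' (IsPullback.of_hasPullback p i) K
  have hp : Function.Bijective (EtLim.HofPush p K q) := Groth.L27.EtSite.bijective_HofPush p K
    (fun s hs => Groth.L27.EtSite.isZero_Rpush_of_propB p (Groth.L27.EtSite.propB_of_isIntegralHom p) _ s hs) q
  have e := Groth.Agent.S14389.result p i p' i' pullback.condition K q x
  rw [hx, map_zero, map_zero] at e
  exact hp.1 (((h q).1 (e.trans (map_zero _).symm)).trans (map_zero _).symm)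

end Groth.L21.CurveExt
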