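import Groth.Agent.L21.CurveExt.Const
import Groth.Agent.L27.PBC.CurveComp

/-!
# Invariance of the cohomology of curves under extensions of algebraically closed fields
-/

set_option autoImplicit false
set_option linter.style.haveILetI false
set_option linter.unusedSectionVars false
set_option backward.isDefEq.respectTransparency false
set_option backward.isDefEq.respectTransparency.types false

universe u

open CategoryTheory CategoryTheory.Limits AlgebraicGeometry Opposite

noncomputable section

namespace Groth.L21.CurveExt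

open Groth.L27.LimCoh
open Groth.L27.PBC (cMap liftHom const_additive hom_sum_apply)

/-- Surjectivity for constant sheaves reduces to cyclic groups of dividing order. -/
theorem surjective_of_cyclic_dvd {X Z : Scheme.{u}} (i : Z ⟶ X) [PreservesFiniteLimits (EtCoh.pull i)] (q : ℕ)
    (M : Type) [AddCommGroup M] [Finite M]
    (h : ∀ n : ℕ, n ∣ Nat.card M → Function.Surjective (EtCore.Hpull i (EtCoh.const X (ZMod n)) q)) :
    Function.Surjective (EtCore.Hpull i (EtCoh.const X M) q) := by
  classical
  obtain ⟨ι₀, _, p, hp, e, ⟨ε⟩⟩ := AddCommGroup.equiv_directSum_zmod_of_finite M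
  let π : ∀ j, M →+ ZMod (p j ^ e j) := fun j => (DFinsupp.evalAddMonoidHom j).comp ε.toAddMonoidHom
  let κ : ∀ j, ZMod (p j ^ e j) →+ M := fun j => ε.symm.toAddMonoidHom.comp (DirectSum.of (fun j => ZMod (p j ^ e j)) j)
  have hid : ∑ j, liftHom.{u} (π j) ≫ liftHom (κ j) = 𝟙 _ := by
    refine ConcreteCategory.hom_ext _ _ fun m => (hom_sum_apply _ _ m).trans ?_
    obtain ⟨m⟩ := m
    refine ULift.ext _ _ (ε.injective ?_)
    refine Eq.trans (congrArg ε (map_sum (AddEquiv.ulift : ULift.{u + 1} M ≃+ M) _ _)) ?_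
    rw [map_sum]
    refine Eq.trans ?_ (DirectSum.sum_univ_of (ε m))
    exact Finset.sum_congr rfl fun j _ => ε.apply_symm_apply _
  have hd : ∀ j, p j ^ e j ∣ Nat.card M := fun j => by
    have hinj : Function.Injective (κ j) := ε.symm.injective.comp (DirectSum.of_injective j)
    rw [← Nat.card_zmod (p j ^ e j)]
    exact AddSubgroup.card_dvd_of_injective (κ j) hinj
  intro c
  haveI := const_additive X
  haveI := L28.CurveCd.HF_additive Z q
  haveI : (EtCoh.pull i).Additive := (EtCoh.pullPushAdj i).left_adjoint_additive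
  have hy : ∀ j, ∃ y, EtCore.Hpull i _ q y = (EtCoh.HF Z q).map ((EtCoh.pull i).map (cMap X (π j))) c :=
    fun j => h _ (hd j) _
  choose y hy using hy
  refine ⟨∑ j, (EtCoh.HF X q).map (cMap X (κ j)) (y j), ?_⟩
  rw [map_sum]
  refine (Finset.sum_congr rfl fun j _ => (Hpull_map i (cMap X (κ j)) q (y j)).trans
    ((congrArg _ (hy j)).trans (HF_map_comp _ ((EtCoh.pull i).map (cMap X (κ j))) q c).symm)).trans ?_
  refine (hom_sum_apply (A := (EtCoh.HF Z q).obj ((EtCoh.pull i).obj (EtCoh.const X M))) Finset.univ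
    (fun j => (EtCoh.HF Z q).map ((EtCoh.pull i).map (cMap X (π j)) ≫ (EtCoh.pull i).map (cMap X (κ j)))) c).symm.trans ?_
  rw [← Functor.map_sum]
  have e' : ∑ j, (EtCoh.pull i).map (cMap X (π j)) ≫ (EtCoh.pull i).map (cMap X (κ j)) =
      𝟙 ((EtCoh.pull i).obj (EtCoh.const X M)) := by
    simp only [← Functor.map_comp, cMap, ← Functor.map_sum, hid, CategoryTheory.Functor.map_id]
  rw [e', CategoryTheory.Functor.map_id]
  rfl

variable {k : Type u} [Field k] [IsAlgClosed k] {K : Type u} [Field K] [IsAlgClosed K] [Algebra k K]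

/-- Cohomology of curves with coefficients of invertible torsion is invariant under algebraically closed extensions. -/
theorem bijective_curve {X : Scheme.{u}} (f : X ⟶ Spec (CommRingCat.of k)) [IsSeparated f] [LocallyOfFiniteType f]
    [QuasiCompact f] [PreservesFiniteLimits (EtCoh.pull (bcPr f (K := K)))] (hdim : topologicalKrullDim X ≤ 1)
    (F : EtCoh.Ab X) (hF : EtAcyc.IsLTorsion {l : ℕ | (l : k) ≠ 0} F) (q : ℕ) :
    Function.Bijective (EtCore.Hpull (bcPr f (K := K)) F q) := by
  haveI : CompactSpace X := QuasiCompact.compactSpace_of_compactSpace f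
  haveI : QuasiSeparatedSpace X := quasiSeparatedSpace_of_quasiSeparated f
  haveI : CompactSpace ↥(pullback f (Spec.map (CommRingCat.ofHom (algebraMap k K)))) :=
    QuasiCompact.compactSpace_of_compactSpace (pullback.snd f _)
  haveI : QuasiSeparatedSpace ↥(pullback f (Spec.map (CommRingCat.ofHom (algebraMap k K)))) :=
    quasiSeparatedSpace_of_quasiSeparated (pullback.snd f _)
  refine bijective_of_const (bcPr f (K := K)) _ (fun G _ => Groth.L27.PBC.bijective_zero_field f G)
    (fun n X' p _ M _ _ _ hM => ?_) q F hF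
  refine surjective_of_cyclic_dvd _ _ M fun m hm => ?_
  have hk : (m : k) ≠ 0 := fun h0 => by
    have hpos : 0 < m := Nat.pos_of_dvd_of_pos hm Nat.card_pos
    obtain ⟨l, hl, hlm⟩ : ∃ l : ℕ, l.Prime ∧ l ∣ m ∧ (l : k) = 0 := by
      clear hm
      induction m using Nat.strongRecOn with
      | _ m ih =>
        rcases eq_or_ne m 1 with rfl | h1
        · exact absurd ((Nat.cast_one (R := k)).symm.trans h0) one_ne_zero
        obtain ⟨l, hl, j, rfl⟩ := Nat.exists_prime_and_dvd h1
        rw [Nat.cast_mul] at h0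
        rcases mul_eq_zero.1 h0 with h | h
        · exact ⟨l, hl, dvd_mul_right l j, h⟩
        · have hj : 0 < j := Nat.pos_of_mul_pos_left hpos
          obtain ⟨r, hr, hrj, hr0⟩ := ih j ((lt_mul_iff_one_lt_left hj).2 hl.one_lt) h hj
          exact ⟨r, hr, hrj.mul_left l, hr0⟩
    exact hM l hl (hlm.1.trans hm) hlm.2
  haveI : NeZero m := ⟨fun h => hk (by rw [h, Nat.cast_zero])⟩
  let g := p ≫ f
  haveI := Groth.L27.EtSite.preservesFiniteLimits_pull (bcPr g (K := K))
  have hb := bij_const (K := K) g ((Groth.L19.topologicalKrullDim_le_of_isIntegralHom p).trans hdim) m hk (n + 1)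
  exact Groth.L27.PBC.surjective_of_iso
    (pullbackRightPullbackFstIso f (Spec.map (CommRingCat.ofHom (algebraMap k K))) p) _ _
    (pullbackRightPullbackFstIso_hom_fst _ _ _) _ _ hb.2

end Groth.L21.CurveExt
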