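import Groth.Agent.L21.CurveExt.NormCoh
import Groth.Agent.L21.CurveFin.H0
import Groth.Agent.L22.Norm.BranchCount
import Groth.Agent.L21.NodeFrob.Local
import Groth.Agent.L23.BranchBasic
import Groth.Agent.L27.ShriekBC.StalkH0c
import Groth.Agent.L28.CurveCd.Points
import Groth.Agent.L27.EtSite.PushFinite
import Groth.Agent.L27.CompTransfer.Transfer
import Mathlib.AlgebraicGeometry.AlgClosed.Basic
import Mathlib.Algebra.Category.Grp.Biproducts

/-!
# The first cohomology of a curve with one node and of its normalization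
-/

set_option autoImplicit false
set_option linter.style.haveILetI false
set_option linter.unusedSectionVars false
set_option backward.isDefEq.respectTransparency false
set_option backward.isDefEq.respectTransparency.types false

universe u

open CategoryTheory CategoryTheory.Limits AlgebraicGeometry Opposite TopologicalSpace CategoryTheory.Abelian

noncomputable section

namespace Groth.L21.CurveExt

/-- Cardinalities in a short exact sequence of groups. -/
theorem card_of_shortExact {S : ShortComplex AddCommGrpCat.{u}} (h : S.ShortExact) :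
    Nat.card S.X₂ = Nat.card S.X₁ * Nat.card S.X₃ := by
  haveI := h.mono_f; haveI := h.epi_g
  have hf := (AddCommGrpCat.mono_iff_injective S.f).1 inferInstance
  have hg := (AddCommGrpCat.epi_iff_surjective S.g).1 inferInstance
  have hker : S.g.hom.ker = S.f.hom.range := by
    refine le_antisymm (fun x hx => ?_) ?_
    · exact (ShortComplex.ab_exact_iff S).1 h.exact x hx
    · rintro _ ⟨a, rfl⟩
      exact ConcreteCategory.congr_hom S.zero a
  rw [AddSubgroup.card_eq_card_quotient_mul_card_addSubgroup S.g.hom.ker, mul_comm,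
    Nat.card_congr (QuotientAddGroup.quotientKerEquivOfSurjective _ hg).toEquiv, hker]
  exact congrArg (· * _) (Nat.card_congr (Equiv.ofInjective S.f.hom hf)).symm

theorem range_pointSpec {X : Scheme.{u}} {Ω : Type u} [Field Ω] (v : Spec (CommRingCat.of Ω) ⟶ X) :
    Set.range v = {v.base default} :=
  Set.eq_singleton_iff_unique_mem.2 ⟨⟨_, rfl⟩, by
    rintro _ ⟨t, rfl⟩
    exact congrArg v.base (Subsingleton.elim t default)⟩

variable {k : Type u} [Field k] [IsAlgClosed k]

/-- A point with a field of values is determined by its closed image and its structure map. -/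
theorem eq_comp_pointOfClosedPoint {N : Scheme.{u}} (g : N ⟶ Spec (CommRingCat.of k)) [LocallyOfFiniteType g]
    {Ω : Type u} [Field Ω] [IsSepClosed Ω] (v : Spec (CommRingCat.of Ω) ⟶ N) (x : N) (hx : IsClosed ({x} : Set N))
    (hv : v.base default = x) : v = (v ≫ g) ≫ pointOfClosedPoint g x hx := by
  haveI := isClosedImmersion_of_comp_eq_id _ _ (pointOfClosedPoint_comp g x hx)
  let σ := pointOfClosedPoint g x hx
  have hr : Set.range v ⊆ Set.range σ := by
    rw [range_pointSpec v, hv, Set.singleton_subset_iff]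
    exact ⟨default, pointOfClosedPoint_apply g x hx _⟩
  obtain ⟨η, hη⟩ := Groth.L28.Sky.exists_factor v x hv
  have hfac : N.fromSpecResidueField x = Spec.map (residueFieldIsoBase g x hx).inv ≫ σ := by
    simp only [σ, pointOfClosedPoint, ← Category.assoc, ← Spec.map_comp, Iso.hom_inv_id, Spec.map_id, Category.id_comp]
  have hσ : σ ≫ g = 𝟙 _ := pointOfClosedPoint_comp g x hx
  show v = (v ≫ g) ≫ σ
  rw [← hη, hfac]
  simp only [Category.assoc]
  rw [reassoc_of% hσ]

variable {X : Scheme.{u}} [X.Over (Spec (CommRingCat.of k))] [IsIntegral X]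
  [IsProper (X ↘ Spec (CommRingCat.of k))]

/-- The global sections of constants on an irreducible scheme. -/
theorem card_H0_const {Y : Scheme.{u}} [IrreducibleSpace Y] (M : Type) [AddCommGroup M] :
    Nat.card (EtCoh.H Y (EtCoh.const Y M) 0) = Nat.card M := by
  let A : AddCommGrpCat.{u + 1} := AddCommGrpCat.of (ULift.{u + 1} M)
  haveI : PreirreducibleSpace (EtCoh.top Y).left := inferInstanceAs (PreirreducibleSpace Y)
  haveI : Nonempty (EtCoh.top Y).left := inferInstanceAs (Nonempty Y)
  have hb : Function.Bijective (Groth.L27.ConstSect.cst A (EtCoh.top Y)) :=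
    ⟨Groth.L27.ConstSect.cst_injective A _, fun s => (Groth.L27.ConstSect.exists_eq_cst A (EtCoh.top Y) s).imp
      fun a ha => ha.symm⟩
  rw [Nat.card_congr (Groth.L27.LimCoh.secEq (EtCoh.const Y M)).toEquiv, ← Nat.card_congr (Equiv.ofBijective _ hb)]
  exact Nat.card_congr Equiv.ulift

/-- The global sections of a sheaf supported at one rational point are its stalk. -/
theorem card_H0_supported {Y : Scheme.{u}} (σ : Spec (CommRingCat.of k) ⟶ Y) [IsClosedImmersion σ]
    (Q : EtCoh.Ab Y) (hQ : EtPBC.supp Q ⊆ Set.range σ.base) :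
    Nat.card (EtCoh.H Y Q 0) = Nat.card ↥((EtCoh.stalk σ).obj Q) := by
  haveI := Groth.L27.EtSite.preservesFiniteLimits_pull σ
  haveI := Groth.L27.EtSite.propB_of_isIntegralHom σ
  haveI := (Groth.L27.EtSite.isIso_unit_iff σ (Groth.L27.EtSite.propA_of_isIntegralHom σ) Q).2 hQ
  let W := (EtCoh.pull σ).obj Q
  have hb : Function.Bijective (EtLim.HofPush σ W 0) := Groth.L27.EtSite.bijective_HofPush σ W (fun r hr =>
    Groth.L27.EtSite.isZero_Rpush_of_propB σ (Groth.L27.EtSite.propB_of_isIntegralHom σ) _ r hr) 0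
  refine (Nat.card_congr (Groth.L21.CurveKummer.congrH (asIso ((EtCoh.pullPushAdj σ).unit.app Q)) 0).toEquiv).trans ?_
  show Nat.card (EtCoh.H Y ((EtCoh.push σ).obj W) 0) = _
  rw [Nat.card_congr (Equiv.ofBijective _ hb), Nat.card_congr (Groth.L27.LimCoh.secEq W).toEquiv,
    Nat.card_congr (Equiv.ofBijective _ (Groth.L27.ShriekBC.bijective_germ_id W.obj))]
  refine Nat.card_congr (((Groth.L27.EtSite.stalkPullIso σ (𝟙 _)).app Q).addCommGroupIsoToAddEquiv.toEquiv.trans ?_)
  rw [Category.id_comp]

omit [X.Over (Spec (CommRingCat.of k))] [IsProper (X ↘ Spec (CommRingCat.of k))] in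
/-- An integrally closed domain has one branch. -/
theorem numBranches_eq_one (A : Type u) [CommRing A] [IsLocalRing A] [IsDomain A] [IsIntegrallyClosed A] :
    Brnch.numBranches A = 1 := by
  refine (Groth.L23.Branch.numBranches_eq_one_iff A).2 ?_
  let e : CAlg2.red A ≃+* A := (Ideal.quotEquivOfEq (nilradical_eq_zero A)).trans (RingEquiv.quotientBot A)
  haveI : IsDomain (CAlg2.red A) := e.toMulEquiv.isDomain
  haveI : IsIntegrallyClosed (CAlg2.red A) := IsIntegrallyClosed.of_equiv e.symm
  haveI : IsLocalRing (CAlg2.red A) := e.symm.isLocalRing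
  refine ⟨inferInstance, IsLocalRing.of_surjective' (algebraMap (CAlg2.red A) (CAlg2.normRed A)) fun b => ?_⟩
  obtain ⟨a, ha⟩ := IsIntegrallyClosed.isIntegral_iff.1 b.2
  exact ⟨a, Subtype.ext ha⟩

omit [X.Over (Spec (CommRingCat.of k))] [IsIntegral X] [IsProper (X ↘ Spec (CommRingCat.of k))] in
theorem toNat_card {α : Type*} {m : ℕ} (h : ENat.card α = (m : ℕ∞)) : Nat.card α = m := by
  haveI : Finite α := by
    by_contra hinf
    haveI : Infinite α := not_finite_iff_infinite.1 hinf
    rw [ENat.card_eq_top_of_infinite] at h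
    exact absurd h.symm (ENat.natCast_ne_top m)
  haveI := Fintype.ofFinite α
  rw [ENat.card_eq_coe_fintype_card, Nat.cast_inj] at h
  rw [Nat.card_eq_fintype_card, h]

variable (hdim : topologicalKrullDim X = 1) (hnodal : Curv2.AtWorstNodal k X)
  [QuasiCompact (X.fromSpecStalk (genericPoint X))] [QuasiSeparated (X.fromSpecStalk (genericPoint X))]

include hdim in
theorem dim_components : ∀ Z ∈ irreducibleComponents (X : Type u), topologicalKrullDim Z = 1 := by
  intro Z hZ
  rw [irreducibleComponents_eq_singleton, Set.mem_singleton_iff] at hZ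
  subst hZ
  exact (IsHomeomorph.topologicalKrullDim_eq _ (Homeomorph.Set.univ X).isHomeomorph).trans hdim

include hdim in
/-- The fibres of the normalisation of a nodal curve over closed points. -/
theorem card_fibre_normalization (x : X) :
    (Curv2.IsNode k X x → Nat.card {y // (Curv2.normalizationι X).base y = x} = 2) ∧
      ((∃ U : X.Opens, x ∈ U ∧ Smooth (U.ι ≫ (X ↘ Spec (CommRingCat.of k)))) →
        Nat.card {y // (Curv2.normalizationι X).base y = x} = 1) := by
  have h := (Groth.L22.Norm.numBranches_eq X x).1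
  rw [Brnch.numBranchesAt] at h
  refine ⟨fun hx => ?_, fun ⟨U, hxU, hU⟩ => ?_⟩
  · rw [Groth.L21.NodeFrob.numBranches_of_isNode k (dim_components hdim) hx] at h
    exact toNat_card h.symm
  · haveI := hU
    haveI := Groth.L21.Smooth.isDomain_stalk (U.ι ≫ (X ↘ Spec (CommRingCat.of k))) ⟨x, hxU⟩
    haveI := Groth.L21.Smooth.isIntegrallyClosed_stalk (U.ι ≫ (X ↘ Spec (CommRingCat.of k))) ⟨x, hxU⟩
    haveI : IsIntegrallyClosed (X.presheaf.stalk x) :=
      IsIntegrallyClosed.of_equiv (U.stalkIso ⟨x, hxU⟩).commRingCatIsoToRingEquiv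
    rw [numBranches_eq_one] at h
    exact toNat_card h.symm

include hdim hnodal in
/-- Surjectivity and the size of the kernel on constants. -/
theorem Hpull_one_node (hone : Nat.card {x : X // Curv2.IsNode k X x} = 1)
    [PreservesFiniteLimits (EtCoh.pull (Curv2.normalizationι X))] (n : ℕ) [NeZero n] :
    Function.Surjective (EtCore.Hpull (Curv2.normalizationι X) (EtCoh.const X (ZMod n)) 1) ∧
      Nat.card (EtCore.Hpull (Curv2.normalizationι X) (EtCoh.const X (ZMod n)) 1).ker = n := by
  obtain ⟨hfin, -, ⟨V, hV, hVi⟩, hint, -⟩ := Groth.Agent.S1585.result k X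
  haveI := hfin; haveI := hVi; haveI := hint
  let f := X ↘ Spec (CommRingCat.of k)
  let ν := Curv2.normalizationι X
  let g := ν ≫ f
  obtain ⟨hs, -⟩ := Hpull_const_normalization f hdim.le ν V hV n
  refine ⟨hs, ?_⟩
  haveI : IsDominant ν := (Groth.Agent.S1585.result k X).2.1
  haveI : Surjective ν := ⟨fun x => by
    have h := ν.denseRange.closure_range
    rw [(ν.isClosedMap.isClosed_range).closure_eq] at h
    exact h.ge (Set.mem_univ x)⟩
  let C := EtCoh.const X (ZMod n)
  let η : C ⟶ (EtCoh.push ν).obj ((EtCoh.pull ν).obj C) := (EtCoh.pullPushAdj ν).unit.app C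
  haveI : Mono η := Groth.L27.HenselClosed.mono_unit ν C
  let S : ShortComplex (EtCoh.Ab X) := ShortComplex.mk η (cokernel.π η) (cokernel.condition η)
  have hS : S.ShortExact := { exact := ShortComplex.exact_cokernel η }
  obtain ⟨⟨x₀, hx₀⟩, huniq⟩ := Nat.card_eq_one_iff_exists.1 hone
  let σ := pointOfClosedPoint f x₀ hx₀.1
  haveI : IsClosedImmersion σ := isClosedImmersion_of_comp_eq_id _ _ (pointOfClosedPoint_comp f x₀ hx₀.1)
  have hσ : σ.base default = x₀ := pointOfClosedPoint_apply f x₀ hx₀.1 _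
  -- lifts of geometric points
  have hclN : ∀ y, IsClosed ({ν.base y} : Set X) → IsClosed ({y} : Set ↥(Curv2.normalization X)) := fun y hy => by
    have hdN : topologicalKrullDim ↥(Curv2.normalization X) ≤ 1 :=
      (Groth.L19.topologicalKrullDim_le_of_isIntegralHom ν).trans hdim.le
    rcases Groth.L28.CurveCd.isClosed_or_maximal hdN y with h | h
    · exact h
    · exfalso
      have hy' : y = genericPoint ↥(Curv2.normalization X) := (h _ (genericPoint_specializes y)).symm
      have hgen : Set.univ ⊆ ({ν.base y} : Set X) := by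
        intro x _
        obtain ⟨z, rfl⟩ := ν.surjective x
        have hz : y ⤳ z := hy' ▸ genericPoint_specializes z
        have := (hz.map ν.continuous).mem_closure
        rwa [hy.closure_eq] at this
      have h0 : topologicalKrullDim X ≤ 0 := by
        haveI : Subsingleton X := ⟨fun a b => (hgen (Set.mem_univ a)).trans (hgen (Set.mem_univ b)).symm⟩
        exact topologicalKrullDim_zero_of_discreteTopology X
      rw [hdim] at h0
      exact absurd h0 (by decide)
  have hcount : ∀ {Ω : Type u} [Field Ω] [IsSepClosed Ω] (ξ : Spec (CommRingCat.of Ω) ⟶ X) (x : X),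
      IsClosed ({x} : Set X) → ξ.base default = x →
      Nonempty ({v : Spec (CommRingCat.of Ω) ⟶ Curv2.normalization X // v ≫ ν = ξ} ≃ {y // ν.base y = x}) := by
    intro Ω _ _ ξ x hxc hξ
    refine ⟨⟨fun v => ⟨v.1.base default, by rw [← Scheme.Hom.comp_apply, v.2, hξ]⟩,
      fun y => ⟨(ξ ≫ f) ≫ pointOfClosedPoint g y.1 (hclN y.1 (y.2.symm ▸ hxc)), ?_⟩, fun v => ?_, fun y => ?_⟩⟩
    · have e : pointOfClosedPoint g y.1 (hclN y.1 (y.2.symm ▸ hxc)) ≫ ν = pointOfClosedPoint f x hxc :=
        ext_of_apply_closedPoint_eq f (by rw [Category.assoc]; exact pointOfClosedPoint_comp g _ _)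
          (pointOfClosedPoint_comp f x hxc)
          (by rw [Scheme.Hom.comp_apply, pointOfClosedPoint_apply, pointOfClosedPoint_apply, y.2])
      rw [Category.assoc, e]
      exact (eq_comp_pointOfClosedPoint f ξ x hxc hξ).symm
    · refine Subtype.ext ?_
      have hv := v.1.base default
      show (ξ ≫ f) ≫ pointOfClosedPoint g (v.1.base default) _ = v.1
      rw [show ξ ≫ f = v.1 ≫ g by rw [← Category.assoc, v.2]]
      exact (eq_comp_pointOfClosedPoint g v.1 _ _ rfl).symm
    · exact Subtype.ext ((Scheme.Hom.comp_apply _ _ _).trans (pointOfClosedPoint_apply g _ _ _))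
  -- the cokernel is supported at the node
  have hsupp : EtPBC.supp (cokernel η) ⊆ Set.range σ.base := by
    rintro y ⟨Ω, _, _, ξ, hξ, hne⟩
    obtain rfl : ξ.base default = y := hξ.subset ⟨_, rfl⟩
    rw [range_pointSpec σ, hσ, Set.mem_singleton_iff]
    by_contra hne'
    refine hne (Groth.L28.CurveCd.isZero_stalk_cokernel η ξ (Function.Bijective.surjective ?_))
    by_cases hc : IsClosed ({ξ.base default} : Set X)
    · obtain ⟨hsm⟩ : Nonempty (∃ U : X.Opens, ξ.base default ∈ U ∧ Smooth (U.ι ≫ (X ↘ Spec (CommRingCat.of k)))) :=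
        ⟨(hnodal _ hc).resolve_right fun hn => hne' (congrArg Subtype.val (huniq ⟨_, hn⟩))⟩
      let ξ' : Spec (CommRingCat.of (AlgebraicClosure Ω)) ⟶ X :=
        Spec.map (CommRingCat.ofHom (algebraMap Ω (AlgebraicClosure Ω))) ≫ ξ
      have hp : ξ'.base default = ξ.base default :=
        (Scheme.Hom.comp_apply _ _ _).trans (congrArg ξ.base (Subsingleton.elim _ _))
      obtain ⟨e⟩ := hcount ξ' (ξ.base default) hc hp
      obtain ⟨hs1, hne1⟩ := Nat.card_eq_one_iff_unique.1 ((card_fibre_normalization hdim _).2 hsm)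
      haveI := hs1; haveI := hne1
      haveI := e.subsingleton
      obtain ⟨v⟩ : Nonempty {v // v ≫ ν = ξ'} := ⟨e.symm hne1.some⟩
      have hb := Groth.L21.AffCd.bijective_stalk_of_point _ ξ ξ' hp
        (Groth.L21.AffCd.bijective_stalk_constRes ν (ZMod n) ξ' ⟨v.1, v.2, fun w hw =>
          congrArg Subtype.val (Subsingleton.elim (⟨w, hw⟩ : {v // v ≫ ν = ξ'}) v)⟩)
      rw [Groth.L21.AffCd.constRes, Functor.map_comp] at hb
      exact ((ConcreteCategory.bijective_of_isIso ((EtCoh.stalk ξ).map ((EtCoh.push ν).map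
        ((EtCore.pullConstIso ν).app (AddCommGrpCat.of (ULift.{u + 1} (ZMod n)))).hom))).of_comp_iff' _).1 hb
    · exact bijective_stalk_unit hdim.le ν V hV n Ω ξ hc
  -- the stalk at the node
  have hstalkC : Nat.card ↥((EtCoh.stalk σ).obj C) = n := by
    rw [Nat.card_congr (Groth.L28.Pts.sheafFiberConstIso _ (Groth.L28.Sky.inverted σ)
      (AddCommGrpCat.of (ULift.{u + 1} (ZMod n)))).addCommGroupIsoToAddEquiv.toEquiv]
    exact (Nat.card_congr Equiv.ulift).trans (Nat.card_zmod n)
  have hstalkP : Nat.card ↥((EtCoh.stalk σ).obj S.X₂) = n * n := by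
    obtain ⟨e⟩ := Groth.L27.EtSite.PushFinite.nonempty_stalk_push_iso ν σ ((EtCoh.pull ν).obj C)
    obtain ⟨eL⟩ := hcount σ x₀ hx₀.1 hσ
    have h2 : Nat.card {v // v ≫ ν = σ} = 2 :=
      (Nat.card_congr eL).trans ((card_fibre_normalization hdim x₀).1 hx₀)
    haveI : Finite {v // v ≫ ν = σ} := Nat.finite_of_card_ne_zero (by omega)
    let eF : Fin 2 ≃ {v // v ≫ ν = σ} := (Finite.equivFinOfCardEq h2).symm
    let T := fun v : {v // v ≫ ν = σ} => (EtCoh.stalk v.1).obj ((EtCoh.pull ν).obj C)
    let i₁ : (∐ T) ≅ ∐ fun i => T (eF i) :=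
      (Sigma.whiskerEquiv (f := fun i => T (eF i)) (g := T) eF fun i => Iso.refl _).symm
    let i₂ := (biproduct.isoCoproduct fun i => T (eF i)).symm
    have hT : ∀ v, Nat.card ↥(T v) = n := fun v => by
      rw [Nat.card_congr ((EtCoh.stalk v.1).mapIso
        (EtCore.pullConst ν (ZMod n)) ≪≫ Groth.L28.Pts.sheafFiberConstIso _ (Groth.L28.Sky.inverted v.1)
        (AddCommGrpCat.of (ULift.{u + 1} (ZMod n)))).addCommGroupIsoToAddEquiv.toEquiv]
      exact (Nat.card_congr Equiv.ulift).trans (Nat.card_zmod n)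
    rw [Nat.card_congr (e ≪≫ i₁ ≪≫ i₂ ≪≫ AddCommGrpCat.biproductIsoPi _).addCommGroupIsoToAddEquiv.toEquiv]
    show Nat.card (∀ i, T (eF i)) = _
    rw [Nat.card_pi, Fin.prod_univ_two, hT, hT]
  haveI : (EtCoh.stalk σ).PreservesZeroMorphisms := inferInstance
  have hQ : Nat.card (EtCoh.H X S.X₃ 0) = n := by
    rw [card_H0_supported σ S.X₃ hsupp]
    have hc := card_of_shortExact (hS.map_of_exact (EtCoh.stalk σ))
    exact Nat.eq_of_mul_eq_mul_left (NeZero.pos n)
      ((congrArg (· * _) hstalkC.symm).trans (hc.symm.trans hstalkP))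
  -- the connecting map
  have hP : ∀ q, Function.Bijective (EtLim.HofPush ν ((EtCoh.pull ν).obj C) q) := fun q =>
    Groth.L27.EtSite.bijective_HofPush ν _ (fun r hr =>
      Groth.L27.EtSite.isZero_Rpush_of_propB ν (Groth.L27.EtSite.propB_of_isIntegralHom ν) _ r hr) q
  have hsurj0 : Function.Surjective ((EtCoh.HF X 0).map η) := by
    have h1 : Nat.card (EtCoh.H X C 0) = n := (card_H0_const (ZMod n)).trans (Nat.card_zmod n)
    have h2 : Nat.card (EtCoh.H X S.X₂ 0) = n := by
      rw [show S.X₂ = (EtCoh.push ν).obj ((EtCoh.pull ν).obj C) from rfl, Nat.card_congr (Equiv.ofBijective _ (hP 0)),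
        Nat.card_congr (Groth.L21.CurveKummer.congrH (EtCore.pullConst ν (ZMod n)) 0).toEquiv]
      exact (card_H0_const (ZMod n)).trans (Nat.card_zmod n)
    haveI : Finite (EtCoh.H X S.X₂ 0) := Nat.finite_of_card_ne_zero (by rw [h2]; exact NeZero.ne n)
    have hi : Function.Injective ((EtCoh.HF X 0).map η) := (injective_iff_map_eq_zero _).2 fun x hx => by
      obtain ⟨a, rfl⟩ := (Ext.mk₀_bijective _ _).2 x
      rw [Groth.L27.EtSite.HF_map_apply, Ext.mk₀_comp_mk₀] at hx
      have h0 : a ≫ η = 0 := (Ext.mk₀_bijective _ _).1 (hx.trans (Ext.mk₀_zero _ _).symm)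
      rw [zero_of_comp_mono _ h0]
      exact Ext.mk₀_zero _ _
    exact (hi.bijective_of_nat_card_le (α := EtCoh.H X C 0) (β := EtCoh.H X S.X₂ 0) (h2.trans h1.symm).le).2
  let δ := Groth.L27.LimCoh.δH hS 0
  have hδ : Function.Injective δ := (injective_iff_map_eq_zero _).2 fun y hy => by
    obtain ⟨z, rfl⟩ := Groth.L27.LimCoh.exists_map_of_δH_eq_zero hS 0 y hy
    obtain ⟨w, rfl⟩ := hsurj0 z
    rw [← Groth.L27.LimCoh.HF_map_comp, S.zero]
    exact (Groth.L27.EtSite.HF_map_apply _ _ _).trans (by rw [Ext.mk₀_zero, Ext.comp_zero])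
  have hker : (EtCore.Hpull ν C 1).ker = δ.range := by
    ext x
    rw [AddMonoidHom.mem_ker, Groth.L27.EtSite.Hpull_apply, ← Groth.L27.EtSite.HF_map_apply η 1 x]
    refine ⟨fun hx => ?_, ?_⟩
    · exact Groth.L27.LimCoh.exists_δH hS 0 x ((hP 1).1 (hx.trans (map_zero _).symm))
    · rintro ⟨y, rfl⟩
      rw [show (EtCoh.HF X 1).map η (δ y) = 0 from ?_, map_zero]
      exact (Groth.L27.EtSite.HF_map_apply S.f 1 _).trans
        (((Ext.comp_assoc_of_third_deg_zero y hS.extClass (Ext.mk₀ S.f) rfl).trans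
          (congrArg (fun t => Ext.comp y t rfl) hS.extClass_comp)).trans (Ext.comp_zero _ _ _ _ _))
  rw [hker, ← Nat.card_congr (AddMonoidHom.ofInjective hδ).toEquiv, hQ]

end Groth.L21.CurveExt
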