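import Groth.Agent.L21.CurveKummer.Main
import Groth.Agent.L21.AffCd.Birational
import Groth.Agent.L21.CurveFin.Exact
import Groth.Agent.L28.CurveCd.GenIso
import Groth.Agent.L27.EtSite.HofPush
import Groth.Agent.L27.HenselClosed.Main
import Groth.Agent.L27.LimCoh.HMaps
import Groth.Agent.L05.PtSeq.DomLocal
import Groth.Agent.S1585

/-!
# Cohomology of a curve and of its normalization
-/

set_option autoImplicit false
set_option linter.style.haveILetI false
set_option linter.unusedSectionVars false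
set_option backward.isDefEq.respectTransparency false
set_option backward.isDefEq.respectTransparency.types false

universe u

open CategoryTheory CategoryTheory.Limits AlgebraicGeometry Opposite TopologicalSpace CategoryTheory.Abelian

noncomputable section

namespace Groth.L21.CurveExt

/-- Points over an open where a morphism is an isomorphism lift uniquely. -/
theorem existsUnique_lift_of_isIso_restrict {N X : Scheme.{u}} (ν : N ⟶ X) (V : X.Opens) [IsIso (ν ∣_ V)]
    {Ω : Type u} [Field Ω] (ξ : Spec (CommRingCat.of Ω) ⟶ X) (hξ : ξ.base default ∈ V) :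
    ∃! v, v ≫ ν = ξ := by
  have hξV : Set.range ξ ⊆ Set.range V.ι := by
    rintro _ ⟨t, rfl⟩
    rw [Scheme.Opens.range_ι, Subsingleton.elim t default]
    exact hξ
  let v₂ := IsOpenImmersion.lift V.ι ξ hξV
  have hv₂ : v₂ ≫ V.ι = ξ := IsOpenImmersion.lift_fac _ _ _
  refine ⟨v₂ ≫ inv (ν ∣_ V) ≫ (ν ⁻¹ᵁ V).ι, ?_, fun w hw => ?_⟩
  · simp only [Category.assoc]
    rw [← morphismRestrict_ι, IsIso.inv_hom_id_assoc, hv₂]
  · have hwr : Set.range w ⊆ Set.range (ν ⁻¹ᵁ V).ι := by
      rintro _ ⟨t, rfl⟩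
      rw [Scheme.Opens.range_ι]
      show ν (w t) ∈ V
      rw [← Scheme.Hom.comp_apply, hw, Subsingleton.elim t default]
      exact hξ
    let w' := IsOpenImmersion.lift (ν ⁻¹ᵁ V).ι w hwr
    have hww : w' ≫ (ν ⁻¹ᵁ V).ι = w := IsOpenImmersion.lift_fac _ _ _
    have h2 : w' ≫ (ν ∣_ V) = v₂ := (cancel_mono V.ι).1 (by
      rw [Category.assoc, morphismRestrict_ι, ← Category.assoc, hww, hw, hv₂])
    rw [← h2, Category.assoc, IsIso.hom_inv_id_assoc, hww]

variable {k : Type u} [Field k] [IsAlgClosed k] {X : Scheme.{u}} (f : X ⟶ Spec (CommRingCat.of k))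
  [LocallyOfFiniteType f] [QuasiCompact f] [IsIntegral X] (hdim : topologicalKrullDim X ≤ 1)
  {N : Scheme.{u}} (ν : N ⟶ X) [IsFinite ν] (V : X.Opens) (hV : (V : Set X).Nonempty) [IsIso (ν ∣_ V)]
  (n : ℕ) [NeZero n]

include hdim hV in
/-- The unit on constants is bijective at points that are not closed. -/
theorem bijective_stalk_unit (Ω : Type u) [Field Ω] [IsSepClosed Ω] (ξ : Spec (CommRingCat.of Ω) ⟶ X)
    (hc : ¬ IsClosed ({ξ.base default} : Set X)) :
    Function.Bijective ((EtCoh.stalk ξ).map ((EtCoh.pullPushAdj ν).unit.app (EtCoh.const X (ZMod n)))) := by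
  have he : ξ.base default = genericPoint X :=
    (((Groth.L28.CurveCd.isClosed_or_maximal hdim (ξ.base default)).resolve_left hc) _ (genericPoint_specializes _)).symm
  let ξ' : Spec (CommRingCat.of (AlgebraicClosure Ω)) ⟶ X :=
    Spec.map (CommRingCat.ofHom (algebraMap Ω (AlgebraicClosure Ω))) ≫ ξ
  have hp : ξ'.base default = ξ.base default :=
    (Scheme.Hom.comp_apply _ _ _).trans (congrArg ξ.base (Subsingleton.elim _ _))
  have hb := Groth.L21.AffCd.bijective_stalk_of_point _ ξ ξ' hp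
    (Groth.L21.AffCd.bijective_stalk_constRes ν (ZMod n) ξ' (existsUnique_lift_of_isIso_restrict ν V ξ' (by
      rw [hp, he]
      exact ((genericPoint_spec X).mem_open_set_iff V.isOpen).2 (by simpa using hV))))
  rw [Groth.L21.AffCd.constRes, Functor.map_comp] at hb
  exact ((ConcreteCategory.bijective_of_isIso ((EtCoh.stalk ξ).map ((EtCoh.push ν).map
    ((EtCore.pullConstIso ν).app (AddCommGrpCat.of (ULift.{u + 1} (ZMod n)))).hom))).of_comp_iff' _).1 hb

variable [PreservesFiniteLimits (EtCoh.pull ν)]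

include f hdim hV in
/-- Pullback to the normalisation is surjective in degree one and bijective above. -/
theorem Hpull_const_normalization :
    Function.Surjective (EtCore.Hpull ν (EtCoh.const X (ZMod n)) 1) ∧
      Function.Bijective (EtCore.Hpull ν (EtCoh.const X (ZMod n)) 2) := by
  let C := EtCoh.const X (ZMod n)
  let η : C ⟶ (EtCoh.push ν).obj ((EtCoh.pull ν).obj C) := (EtCoh.pullPushAdj ν).unit.app C
  have hac := fun q => Groth.L28.CurveCd.acyclic_ker_coker_of_nonclosed f η (bijective_stalk_unit hdim ν V hV n) q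
  have hH : ∀ q, ⇑(EtCore.Hpull ν C q) = ⇑(EtLim.HofPush ν ((EtCoh.pull ν).obj C) q) ∘ (EtCoh.HF X q).map η := fun q =>
    funext fun e => (Groth.L27.EtSite.Hpull_apply ν C q e).trans
      (congrArg _ (Groth.L27.EtSite.HF_map_apply η q e).symm)
  have hP : ∀ q, Function.Bijective (EtLim.HofPush ν ((EtCoh.pull ν).obj C) q) := fun q =>
    Groth.L27.EtSite.bijective_HofPush ν _ (fun s hs =>
      Groth.L27.EtSite.isZero_Rpush_of_propB ν (Groth.L27.EtSite.propB_of_isIntegralHom ν) _ s hs) q
  refine ⟨?_, ?_⟩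
  · rw [show ⇑(EtCore.Hpull ν C 1) = _ from hH 1]
    refine (hP 1).2.comp ?_
    let S₂ : ShortComplex (EtCoh.Ab X) := ShortComplex.mk (Abelian.image.ι η) (cokernel.π η) (by simp)
    have hS₂ : S₂.ShortExact := { exact := ShortComplex.exact_of_f_is_kernel _ (kernelIsKernel _) }
    let S₁ : ShortComplex (EtCoh.Ab X) := ShortComplex.mk (kernel.ι η) (Abelian.factorThruImage η)
      ((cancel_mono (Abelian.image.ι η)).1 (by simp))
    have hS₁ : S₁.ShortExact :=
      { exact := ShortComplex.exact_of_f_is_kernel _ (KernelFork.IsLimit.ofι' _ _ fun g hg =>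
          ⟨kernel.lift η g (by
            have := congrArg (· ≫ Abelian.image.ι η) hg
            simpa only [S₁, Category.assoc, Abelian.image.fac, zero_comp] using this), kernel.lift_ι _ _ _⟩) }
    intro y
    haveI := (hac 0).2
    obtain ⟨z, hz⟩ := Ext.covariant_sequence_exact₂ _ hS₂ y (Subsingleton.elim (α := EtCoh.H X S₂.X₃ 1) _ _)
    haveI := (hac 1).1
    obtain ⟨w, hw⟩ := Ext.covariant_sequence_exact₃ _ hS₁ z (show 1 + 1 = 2 from rfl)
      (Subsingleton.elim (α := EtCoh.H X S₁.X₁ 2) _ _)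
    refine ⟨w, ?_⟩
    have e : η = S₁.g ≫ S₂.f := (Abelian.image.fac η).symm
    exact (congrArg (fun m => (EtCoh.HF X 1).map m w) e).trans ((Groth.L27.LimCoh.HF_map_comp S₁.g S₂.f 1 w).trans
      ((congrArg _ ((Groth.L27.EtSite.HF_map_apply S₁.g 1 w).trans hw)).trans
        ((Groth.L27.EtSite.HF_map_apply S₂.f 1 z).trans hz)))
  · rw [show ⇑(EtCore.Hpull ν C 2) = _ from hH 2]
    exact (hP 2).comp (Groth.L28.CurveCd.bijective_of_acyclic η (fun q => (hac q).1) (fun q => (hac q).2) 0).1

include f hdim hV in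
/-- The same for the roots of unity. -/
theorem Hpull_mu_normalization (hn : (n : k) ≠ 0) :
    Function.Surjective (EtCore.Hpull ν (EtCoh.mu X n) 1) ∧
      Function.Bijective (EtCore.Hpull ν (EtCoh.mu X n) 2) := by
  obtain ⟨e⟩ := Groth.L21.CurveKummer.nonempty_const_iso_mu f n hn
  obtain ⟨h1, h2⟩ := Hpull_const_normalization f hdim ν V hV n
  have hc : ∀ q, EtCore.Hpull ν (EtCoh.mu X n) q ∘ (EtCoh.HF X q).map e.hom =
      (EtCoh.HF N q).map ((EtCoh.pull ν).map e.hom) ∘ EtCore.Hpull ν (EtCoh.const X (ZMod n)) q := fun q =>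
    funext fun x => Groth.L27.LimCoh.Hpull_map ν e.hom q x
  refine ⟨Function.Surjective.of_comp (g := (EtCoh.HF X 1).map e.hom) ?_,
    (Function.Bijective.of_comp_iff _ (ConcreteCategory.bijective_of_isIso ((EtCoh.HF X 2).map e.hom))).1 ?_⟩
  · exact hc 1 ▸ (ConcreteCategory.bijective_of_isIso ((EtCoh.HF N 1).map ((EtCoh.pull ν).map e.hom))).2.comp h1
  · exact hc 2 ▸ (ConcreteCategory.bijective_of_isIso ((EtCoh.HF N 2).map ((EtCoh.pull ν).map e.hom))).comp h2

end Groth.L21.CurveExt
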