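import Groth.Agent.L21.CurveExt.Punctual
import Groth.Agent.L21.CurveExt.Efface
import Groth.Agent.L21.CurveExt.Completion
import Groth.Agent.L21.CurveFin.Const
import Groth.Agent.L21.CurveDual.DimBC
import Groth.Agent.L02.Twist.SepClosed
import Groth.Agent.L21.RR.BaseChange

/-!
# Base change of constants on normal curves
-/

set_option autoImplicit false
set_option linter.style.haveILetI false
set_option linter.unusedSectionVars false
set_option backward.isDefEq.respectTransparency false
set_option backward.isDefEq.respectTransparency.types false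

universe u

open CategoryTheory CategoryTheory.Limits AlgebraicGeometry Opposite TopologicalSpace

noncomputable section

namespace Groth.L21.CurveExt

variable {k : Type u} [Field k] [IsAlgClosed k]

/-- The order of the first cohomology of constants on an open in a smooth proper curve. -/
theorem card_H1_of_compl {Xb : Scheme.{u}} [Xb.Over (Spec (CommRingCat.of k))]
    (hXb : Curve.IsSmoothProperCurve k Xb (Xb ↘ Spec (CommRingCat.of k))) {U : Scheme.{u}} (j : U ⟶ Xb)
    [IsOpenImmersion j] (n : ℕ) [NeZero n] (hn : (n : k) ≠ 0) (r : ℕ) (hfin : ((Set.range j.base)ᶜ).Finite)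
    (hr : ((Set.range j.base)ᶜ).ncard = r + 1) :
    Finite (EtCoh.H U (EtCoh.const U (ZMod n)) 1) ∧
      Nat.card (EtCoh.H U (EtCoh.const U (ZMod n)) 1) = n ^ (2 * Curv2.genus k Xb + r) := by
  let U₀ := j.opensRange
  obtain ⟨a⟩ := Groth.L21.AffCd.nonempty_H1_open k hXb n hn r U₀ hfin hr
  haveI := Groth.L27.EtSite.preservesFiniteLimits_pull j.isoOpensRange.hom
  let b := AddEquiv.ofBijective _ (Groth.L28.AcyComp.bijective_Hpull j.isoOpensRange.hom (EtCoh.const _ (ZMod n)) 1)
  let e := (Groth.L21.CurveKummer.congrH (EtCore.pullConst j.isoOpensRange.hom (ZMod n)) 1).symm.trans (b.symm.trans a)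
  exact ⟨Finite.of_equiv _ e.toEquiv.symm, by rw [Nat.card_congr e.toEquiv, Nat.card_fun, Nat.card_fin, Nat.card_zmod]⟩

variable {K : Type u} [Field K] [IsAlgClosed K] [Algebra k K]

/-- Constants on a nonproper normal curve. -/
theorem bij_const_of_completion {U Xb : Scheme.{u}} [IsIntegral U] (g : U ⟶ Spec (CommRingCat.of k))
    [LocallyOfFiniteType g] [QuasiCompact g] [PreservesFiniteLimits (EtCoh.pull (bcPr g (K := K)))]
    (p : Xb ⟶ Spec (CommRingCat.of k)) (j : U ⟶ Xb) [IsOpenImmersion j]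
    (hXb : Curve.IsSmoothProperCurve k Xb p) (hjp : j ≫ p = g) (hns : ¬ Function.Surjective j.base)
    (n : ℕ) [NeZero n] (hn : (n : k) ≠ 0) : Bij (bcPr g (K := K)) (EtCoh.const U (ZMod n)) := by
  subst hjp
  let g := j ≫ p
  let c := Spec.map (CommRingCat.ofHom (algebraMap k K))
  letI : Xb.Over (Spec (CommRingCat.of k)) := ⟨p⟩
  obtain ⟨hp, hsm, hi, hd⟩ := id hXb
  haveI := hp; haveI := hsm; haveI := hi
  haveI : IsProper (Xb ↘ Spec (CommRingCat.of k)) := hp
  haveI : Smooth (Xb ↘ Spec (CommRingCat.of k)) := hsm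
  haveI := Groth.L21.RR.isNoetherian_of_proper (X := Xb) k
  obtain ⟨P, hP⟩ := Classical.not_forall.1 hns
  let U₀ := j.opensRange
  have hPU : P ∉ U₀ := fun ⟨u, hu⟩ => hP ⟨u, hu⟩
  have hne : Nonempty (↑U₀ : Scheme.{u}) := ⟨⟨j.base (Classical.arbitrary U), ⟨_, rfl⟩⟩⟩
  have hS : ((U₀ : Set Xb)ᶜ).Finite := (Groth.L21.CurveTop.finite_of_isClosed hd.le U₀.isOpen.isClosed_compl
    (fun he => (he.symm ▸ Set.mem_univ (j.base (Classical.arbitrary U)) :
      j.base (Classical.arbitrary U) ∈ (U₀ : Set Xb)ᶜ) ⟨_, rfl⟩)).1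
  have hcl : ∀ x : Xb, x ∉ U₀ → IsClosed ({x} : Set Xb) := fun x hx =>
    Groth.L21.AffCd.isClosed_of_not_mem k hd hne hx
  -- the source is affine
  obtain ⟨hA, -⟩ := Groth.L21.AffCd.open_props (k := k) hXb U₀ hS P hPU
  haveI : IsAffine (↑U₀ : Scheme.{u}) := hA
  haveI : IsAffine U := IsAffine.of_isIso j.isoOpensRange.hom
  haveI : IsLocallyNoetherian U := LocallyOfFiniteType.isLocallyNoetherian g
  haveI : CompactSpace U := inferInstance
  haveI : QuasiSeparatedSpace U := inferInstance
  have hdU : topologicalKrullDim U ≤ 1 :=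
    j.isOpenEmbedding.isEmbedding.isInducing.topologicalKrullDim_le.trans hd.le
  -- the base change
  let Y := pullback g c
  let Yb := pullback p c
  let π := bcPr g (K := K)
  let πb : Yb ⟶ Xb := pullback.fst p c
  letI : Yb.Over (Spec (CommRingCat.of K)) := ⟨pullback.snd p c⟩
  haveI : IsProper (Yb ↘ Spec (CommRingCat.of K)) := inferInstanceAs (IsProper (pullback.snd p c))
  have sqb : IsPullback πb (Yb ↘ Spec (CommRingCat.of K)) (Xb ↘ Spec (CommRingCat.of k)) c :=
    IsPullback.of_hasPullback p c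
  let j' : Y ⟶ Yb := pullback.lift (π ≫ j) (pullback.snd g c) (by
    rw [Category.assoc]; exact pullback.condition)
  have sqj : IsPullback π j' j πb := by
    refine IsPullback.of_bot ?_ (pullback.lift_fst _ _ _).symm (IsPullback.of_hasPullback p c).flip.flip
    show IsPullback π (j' ≫ pullback.snd p c) (j ≫ p) c
    rw [pullback.lift_snd]
    exact IsPullback.of_hasPullback g c
  haveI : IsOpenImmersion j' := MorphismProperty.of_isPullback (P := @IsOpenImmersion) sqj inferInstance
  haveI : Surjective πb := MorphismProperty.pullback_fst (P := @Surjective) _ _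
    ⟨fun x => ⟨(default : PrimeSpectrum K), Subsingleton.elim _ _⟩⟩
  have hrj : Set.range j'.base = πb.base ⁻¹' Set.range j.base := by
    ext z
    constructor
    · rintro ⟨y, rfl⟩
      exact ⟨π.base y, by rw [← Scheme.Hom.comp_apply, ← Scheme.Hom.comp_apply, sqj.w]⟩
    · rintro ⟨u, hu⟩
      obtain ⟨y, -, hy⟩ := Scheme.exists_preimage_of_isPullback sqj u z hu
      exact ⟨y, hy⟩
  haveI : IsIntegral Yb := Groth.L02.Twist.isIntegral_pullback k πb sqb hd
  have hclb : ∀ z : Yb, z ∉ Set.range j'.base → IsClosed ({z} : Set Yb) := fun z hz =>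
    isClosed_over_closed p z (hcl (πb.base z) fun h => hz (hrj ▸ h))
  have hfib : Set.InjOn πb.base (Set.range j'.base)ᶜ := fun z hz z' hz' he => by
    let σ := pointOfClosedPoint p (πb.base z) (hcl (πb.base z) fun h => hz (hrj ▸ h))
    have hsq : IsPullback (pullback.snd πb σ) (pullback.fst πb σ ≫ pullback.snd p c) (σ ≫ p) c :=
      IsPullback.paste_vert (IsPullback.of_hasPullback πb σ).flip (IsPullback.of_hasPullback p c)
    rw [show σ ≫ p = 𝟙 _ from pointOfClosedPoint_comp p _ _] at hsq
    haveI : IsIso (pullback.fst πb σ ≫ pullback.snd p c) := hsq.isIso_snd_of_isIso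
    haveI : Subsingleton ↥(pullback πb σ) :=
      (pullback.fst πb σ ≫ pullback.snd p c).isOpenEmbedding.injective.subsingleton
    have hr : ∀ w, πb.base w = πb.base z → w ∈ Set.range (pullback.fst πb σ).base := fun w hw => by
      rw [Scheme.Pullback.range_fst]
      exact ⟨default, (pointOfClosedPoint_apply p _ _ _).trans hw.symm⟩
    obtain ⟨t, ht⟩ := hr z rfl
    obtain ⟨t', ht'⟩ := hr z' he.symm
    exact ht.symm.trans ((congrArg _ (Subsingleton.elim t t')).trans ht')
  have himg : πb.base '' (Set.range j'.base)ᶜ = (U₀ : Set Xb)ᶜ := by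
    rw [hrj, ← Set.preimage_compl, Set.image_preimage_eq _ πb.surjective]
    rfl
  have hS' : ((Set.range j'.base)ᶜ).Finite := Set.Finite.of_finite_image (himg ▸ hS) hfib
  have hcard : ((Set.range j'.base)ᶜ).ncard = ((U₀ : Set Xb)ᶜ).ncard := by
    rw [← himg, hfib.ncard_image]
  -- the completed base change is a curve
  have hdb : topologicalKrullDim Yb = 1 := by
    refine le_antisymm (Groth.L21.CurveDual.BC.dim_bc_le hd.le K) ?_
    obtain ⟨z, hz⟩ : ∃ z, πb.base z = P := πb.surjective P
    obtain ⟨y, hy⟩ : ∃ y, πb.base y = j.base (Classical.arbitrary U) := πb.surjective _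
    refine Groth.L05.PtSeq.one_le_dim fun hc => ?_
    have h1 : z ∈ closure ({genericPoint Yb} : Set Yb) := (genericPoint_specializes z).mem_closure
    have h2 : y ∈ closure ({genericPoint Yb} : Set Yb) := (genericPoint_specializes y).mem_closure
    rw [hc.closure_eq, Set.mem_singleton_iff] at h1 h2
    rw [h1, ← h2, hy] at hz
    exact hP ⟨_, hz⟩
  have hYb : Curve.IsSmoothProperCurve K Yb (Yb ↘ Spec (CommRingCat.of K)) :=
    ⟨inferInstance, MorphismProperty.of_isPullback (P := @Smooth) sqb inferInstance, inferInstance, hdb⟩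
  have hg : Curv2.genus K Yb = Curv2.genus k Xb := Groth.L21.RR.genus_bc πb sqb
  have hdY : topologicalKrullDim Y ≤ 1 :=
    j'.isOpenEmbedding.isEmbedding.isInducing.topologicalKrullDim_le.trans hdb.le
  haveI : IsAffine Y := inferInstance
  have hnK : (n : K) ≠ 0 := fun h => hn ((algebraMap k K).injective (by rw [map_natCast, h, map_zero]))
  let L : Set ℕ := {l | (l : k) ≠ 0}
  have hL : EtAcyc.IsLTorsion L (EtCoh.const U (ZMod n)) := isLTorsion_const L U (ZMod n) fun l hl hd h => hn (by
    obtain ⟨m, rfl⟩ := (Nat.card_zmod n ▸ hd : l ∣ n)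
    rw [Nat.cast_mul, h, zero_mul])
  let eY : (EtCoh.pull π).obj (EtCoh.const U (ZMod n)) ≅ EtCoh.const Y (ZMod n) := EtCore.pullConst π (ZMod n)
  intro q
  rcases q with _ | _ | q
  · exact Groth.L27.PBC.bijective_zero_field g _
  · obtain ⟨r, hr⟩ : ∃ r, ((U₀ : Set Xb)ᶜ).ncard = r + 1 :=
      ⟨_, (Nat.succ_pred_eq_of_pos ((Set.ncard_pos hS).2 ⟨P, hPU⟩)).symm⟩
    obtain ⟨h1, h1c⟩ := card_H1_of_compl hXb j n hn r hS hr
    obtain ⟨h2, h2c⟩ := card_H1_of_compl hYb j' n hnK r hS' (hcard.trans hr)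
    let e := Groth.L21.CurveKummer.congrH eY 1
    haveI := h1; haveI := h2
    haveI : Finite (EtCoh.H Y ((EtCoh.pull π).obj (EtCoh.const U (ZMod n))) 1) := Finite.of_equiv _ e.toEquiv.symm
    exact (Nat.bijective_iff_injective_and_card _).2
      ⟨injective_succ π L 0 (fun F _ => Groth.L27.PBC.bijective_zero_field g F) _ hL,
        h1c.trans ((congrArg (fun m => n ^ (2 * m + r)) hg.symm).trans (h2c.symm.trans (Nat.card_congr e.toEquiv).symm))⟩
  · obtain ⟨e1⟩ := Groth.L21.CurveKummer.nonempty_const_iso_mu g n hn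
    obtain ⟨e2⟩ := Groth.L21.CurveKummer.nonempty_const_iso_mu (pullback.snd g c) n hnK
    haveI := Groth.L21.AffCd.subsingleton_Hge2_mu g hdU n (NeZero.pos n) (q + 2) (by omega)
    haveI := Groth.L21.AffCd.subsingleton_Hge2_mu (pullback.snd g c) hdY n (NeZero.pos n) (q + 2) (by omega)
    haveI : Subsingleton (EtCoh.H U (EtCoh.const U (ZMod n)) (q + 2)) :=
      (Groth.L21.CurveKummer.congrH e1 (q + 2)).toEquiv.subsingleton
    haveI : Subsingleton (EtCoh.H Y ((EtCoh.pull π).obj (EtCoh.const U (ZMod n))) (q + 2)) :=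
      (Groth.L21.CurveKummer.congrH (eY ≪≫ e2) (q + 2)).toEquiv.subsingleton
    exact ⟨fun a b _ => Subsingleton.elim a b, fun b => ⟨0, Subsingleton.elim _ b⟩⟩

/-- Constants on a normal curve. -/
theorem bij_const_normal {U : Scheme.{u}} [IsIntegral U] (g : U ⟶ Spec (CommRingCat.of k)) [IsSeparated g]
    [LocallyOfFiniteType g] [QuasiCompact g] [PreservesFiniteLimits (EtCoh.pull (bcPr g (K := K)))]
    (hN : Pi1.IsNormalScheme U) (hdim : topologicalKrullDim U ≤ 1) (n : ℕ) [NeZero n] (hn : (n : k) ≠ 0) :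
    Bij (bcPr g (K := K)) (EtCoh.const U (ZMod n)) := by
  by_cases hd : topologicalKrullDim U = 1
  · obtain ⟨Xb, p, j, hj, hXb, hjp⟩ := exists_smooth_completion g hd hN
    haveI := hj
    by_cases hs : Function.Surjective j.base
    · haveI : Surjective j := ⟨hs⟩
      haveI : IsIso j := (isIso_iff_isOpenImmersion_and_surjective j).2 ⟨inferInstance, inferInstance⟩
      obtain ⟨hp, -, -, -⟩ := id hXb
      haveI := hp
      haveI : IsProper g := by rw [← hjp]; infer_instance
      exact fun q => Groth.L27.PBC.bijective_field g q _ (Groth.L27.PBC.isTorsion_const U (ZMod n))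
    · exact bij_const_of_completion g p j hXb hjp hs n hn
  · refine bij_of_supp_closed g _ fun y _ => ?_
    by_contra hy
    refine hd (le_antisymm hdim ?_)
    refine Groth.L05.PtSeq.one_le_dim fun hc => hy ?_
    have h := (genericPoint_specializes y).mem_closure
    rw [hc.closure_eq, Set.mem_singleton_iff] at h
    rwa [h]

end Groth.L21.CurveExt
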