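import Groth.Agent.L21.CurveExt.Five
import Groth.Agent.L27.PBC.FieldInv
import Groth.Agent.L28.CurveCd.GenIso
import Mathlib.AlgebraicGeometry.AlgClosed.Basic

/-!
# Base change to an algebraically closed extension for sheaves supported at closed points
-/

set_option autoImplicit false
set_option linter.style.haveILetI false
set_option linter.unusedSectionVars false
set_option backward.isDefEq.respectTransparency false
set_option backward.isDefEq.respectTransparency.types false

universe u

open CategoryTheory CategoryTheory.Limits AlgebraicGeometry Opposite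

noncomputable section

namespace Groth.L21.CurveExt

variable {k : Type u} [Field k] [IsAlgClosed k] {K : Type u} [Field K] [Algebra k K] {X : Scheme.{u}}
  (f : X ⟶ Spec (CommRingCat.of k)) [LocallyOfFiniteType f]

/-- The base change of `f` to the extension. -/
abbrev bcPr : pullback f (Spec.map (CommRingCat.ofHom (algebraMap k K))) ⟶ X :=
  pullback.fst f (Spec.map (CommRingCat.ofHom (algebraMap k K)))

/-- Points over closed points are closed. -/
theorem isClosed_over_closed (z : ↥(pullback f (Spec.map (CommRingCat.ofHom (algebraMap k K)))))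
    (hz : IsClosed ({(bcPr f (K := K)).base z} : Set X)) :
    IsClosed ({z} : Set ↥(pullback f (Spec.map (CommRingCat.ofHom (algebraMap k K))))) := by
  let c := Spec.map (CommRingCat.ofHom (algebraMap k K))
  let π := bcPr f (K := K)
  let a : ↥(Spec (CommRingCat.of k)) := default
  let σ : Spec (CommRingCat.of k) ⟶ X := pointOfClosedPoint f (π.base z) hz
  have hσ : σ.base a = π.base z := pointOfClosedPoint_apply f (π.base z) hz a
  let q := pullback.fst π σ
  have hsq : IsPullback (pullback.snd π σ) (q ≫ pullback.snd f c) (σ ≫ f) c :=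
    IsPullback.paste_vert (IsPullback.of_hasPullback π σ).flip (IsPullback.of_hasPullback f c)
  rw [show σ ≫ f = 𝟙 _ from pointOfClosedPoint_comp f (π.base z) hz] at hsq
  haveI : IsIso (q ≫ pullback.snd f c) := hsq.isIso_snd_of_isIso
  have hsub : Subsingleton ↥(pullback π σ) :=
    (q ≫ pullback.snd f c).isOpenEmbedding.injective.subsingleton
  have hr : π.base ⁻¹' {π.base z} = Set.range q.base := by
    rw [Scheme.Pullback.range_fst]
    have hrσ : Set.range σ.base = {π.base z} := Set.eq_singleton_iff_unique_mem.2 ⟨⟨a, hσ⟩, by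
      rintro _ ⟨t, rfl⟩
      exact (congrArg σ.base (Subsingleton.elim t a)).trans hσ⟩
    rw [hrσ]
  have hsingle : π.base ⁻¹' {π.base z} = {z} := by
    refine Set.eq_singleton_iff_unique_mem.2 ⟨rfl, fun w hw => ?_⟩
    obtain ⟨t, rfl⟩ := hr ▸ hw
    obtain ⟨t', ht'⟩ := hr ▸ (show z ∈ π.base ⁻¹' {π.base z} from rfl)
    rw [← ht', Subsingleton.elim t t']
  rw [← hsingle]
  exact hz.preimage π.continuous

variable [IsAlgClosed K] [QuasiCompact f]
  [PreservesFiniteLimits (EtCoh.pull (bcPr f (K := K)))]

/-- Sheaves supported at closed points. -/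
theorem bij_of_supp_closed (F : EtCoh.Ab X) (hsupp : ∀ y ∈ EtPBC.supp F, IsClosed ({y} : Set X)) :
    Bij (bcPr f (K := K)) F := by
  refine bij_of_acyclic (Groth.L27.PBC.bijective_zero_field f F)
    (fun q => Groth.L28.CurveCd.subsingleton_H_of_supp_closed f F hsupp q)
    (fun q => Groth.L28.CurveCd.subsingleton_H_of_supp_closed (pullback.snd f _) _ (fun z hz => ?_) q)
  obtain ⟨Ω, i1, i2, ξ, hξ, hne⟩ := hz
  refine isClosed_over_closed f z (hsupp _ ⟨Ω, i1, i2, ξ ≫ bcPr f (K := K), ?_, fun h =>
    hne (h.of_iso ((Groth.L27.EtSite.stalkPullIso _ ξ).app F))⟩)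
  rw [Scheme.Hom.comp_base, TopCat.coe_comp, Set.range_comp]
  exact (congrArg _ hξ).trans (Set.image_singleton)

/-- Changes at closed points do not affect bijectivity. -/
theorem bij_of_generic {F G : EtCoh.Ab X} (φ : F ⟶ G)
    (hgen : ∀ (Ω : Type u) [Field Ω] [IsSepClosed Ω] (ξ : Spec (CommRingCat.of Ω) ⟶ X),
      ¬ IsClosed ({ξ.base default} : Set X) → Function.Bijective ((EtCoh.stalk ξ).map φ))
    (hG : Bij (bcPr f (K := K)) G) : Bij (bcPr f (K := K)) F := by
  have hs : ∀ C : EtCoh.Ab X, (∀ (Ω : Type u) [Field Ω] [IsSepClosed Ω] (ξ : Spec (CommRingCat.of Ω) ⟶ X),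
      Function.Bijective ((EtCoh.stalk ξ).map φ) → IsZero ((EtCoh.stalk ξ).obj C)) →
      Bij (bcPr f (K := K)) C := fun C hC => bij_of_supp_closed f C fun y hy => by
    by_contra hc
    obtain ⟨Ω, _, _, ξ, hξ, hne⟩ := hy
    obtain rfl : ξ.base default = y := hξ.subset ⟨_, rfl⟩
    exact hne (hC Ω ξ (hgen Ω ξ hc))
  exact bij_of_ker_coker φ (hs _ fun Ω _ _ ξ h => Groth.L28.CurveCd.isZero_stalk_kernel φ ξ h.1)
    (hs _ fun Ω _ _ ξ h => Groth.L28.CurveCd.isZero_stalk_cokernel φ ξ h.2) hG

end Groth.L21.CurveExt
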